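import Groth.Agent.Lib.Lead.QC.Extend

/-! # Cutting a global section along a disjoint decomposition of the support. -/

set_option autoImplicit false
universe u
open CategoryTheory Limits Opposite TopologicalSpace AlgebraicGeometry

namespace Groth.Agent.LD.Stein

open Groth.Agent.LD

variable {X : Scheme.{u}}

lemma app_res {M N : X.Modules} (φ : M ⟶ N) {U V : X.Opens} (h : V ≤ U) (s : Γ(M, U)) :
    φ.app V (M.presheaf.map (homOfLE h).op s) = N.presheaf.map (homOfLE h).op (φ.app U s) := by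
  have := φ.mapPresheaf.naturality (homOfLE h).op
  exact congr($this s)

/-- a pair of opens covering `X` -/
structure Cover2 (X : Scheme.{u}) where
  U₁ : X.Opens
  U₂ : X.Opens
  cov : (⊤ : X.Opens) ≤ U₁ ⊔ U₂

variable (c : Cover2 X)

/-- `e` is the section equal to `s` on `U₁` and to `0` on `U₂`. -/
def IsCut (M : X.Modules) (s e : Γ(M, ⊤)) : Prop :=
  M.presheaf.map (homOfLE (le_top : c.U₁ ≤ ⊤)).op e = M.presheaf.map (homOfLE le_top).op s ∧
  M.presheaf.map (homOfLE (le_top : c.U₂ ≤ ⊤)).op e = 0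

lemma IsCut.unique {M : X.Modules} {s e e' : Γ(M, ⊤)} (h : IsCut c M s e) (h' : IsCut c M s e') :
    e = e' :=
  QC.section_ext_of_cover2 M le_top le_top c.cov e e' (h.1.trans h'.1.symm) (h.2.trans h'.2.symm)

lemma IsCut.map {M N : X.Modules} (φ : M ⟶ N) {s e : Γ(M, ⊤)} (h : IsCut c M s e) :
    IsCut c N (φ.app ⊤ s) (φ.app ⊤ e) := by
  refine ⟨?_, ?_⟩
  · rw [← app_res, ← app_res, h.1]
  · rw [← app_res, h.2, map_zero]

lemma exists_isCut (M : X.Modules) (hM : Subsingleton Γ(M, c.U₁ ⊓ c.U₂)) (s : Γ(M, ⊤)) :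
    ∃ e, IsCut c M s e := by
  obtain ⟨z, hz₁, hz₂⟩ := QC.glue2 M (M.presheaf.map (homOfLE (le_top : c.U₁ ≤ ⊤)).op s)
    (0 : Γ(M, c.U₂)) (Subsingleton.elim _ _)
  have htop : c.U₁ ⊔ c.U₂ = ⊤ := le_antisymm le_top c.cov
  refine ⟨M.presheaf.map (homOfLE c.cov).op z, ?_, ?_⟩
  · rw [QC.res_res]
    exact hz₁
  · rw [QC.res_res]
    exact hz₂

end Groth.Agent.LD.Stein
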