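import Groth.Agent.Lib.Lead.Stein.Cut
import Groth.Agent.Lib.Lead.FF.Formal

/-! # Modules killed by an ideal vanish away from its zero locus. -/

set_option autoImplicit false
universe u
open CategoryTheory Limits Opposite TopologicalSpace AlgebraicGeometry

namespace Groth.Agent.LD.Stein

open Groth.Agent.LD

variable {A : Type u} [CommRing A] {X : Scheme.{u}} [X.Over (Spec (CommRingCat.of A))]

variable (A) in
/-- the global function attached to `a : A`. -/
noncomputable def gl (X : Scheme.{u}) [X.Over (Spec (CommRingCat.of A))] (a : A) : Γ(X, ⊤) :=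
  Coh.toGlobal (X ↘ Spec (CommRingCat.of A)) a

lemma mem_basicOpen_gl (a : A) (w : X) :
    w ∈ X.basicOpen (gl A X a) ↔ a ∉ ((X ↘ Spec (CommRingCat.of A)).base w).asIdeal := by
  have h1 : X.basicOpen (gl A X a) = (X ↘ Spec (CommRingCat.of A)) ⁻¹ᵁ
      ((Spec (CommRingCat.of A)).basicOpen ((Scheme.ΓSpecIso (CommRingCat.of A)).inv a)) := by
    rw [Scheme.preimage_basicOpen_top]
    rfl
  rw [h1, basicOpen_eq_of_affine]
  rfl

lemma smulMod_app (M : X.Modules) (a : A) (W : X.Opens) (s : Γ(M, W)) :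
    (Formal.smulMod A M a).app W s =
      X.presheaf.map (homOfLE (le_top : W ≤ ⊤)).op (gl A X a) • s := rfl

lemma subsingleton_of_le_basicOpen (M : X.Modules) (a : A) (h : Formal.smulMod A M a = 0)
    (W : X.Opens) (hW : W ≤ X.basicOpen (gl A X a)) : Subsingleton Γ(M, W) := by
  refine ⟨fun s t => ?_⟩
  have hu : IsUnit (X.presheaf.map (homOfLE (le_top : W ≤ ⊤)).op (gl A X a)) := by
    have h1 := X.toRingedSpace.isUnit_res_basicOpen (gl A X a)
    have h2 : X.presheaf.map (homOfLE (le_top : W ≤ ⊤)).op (gl A X a) =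
        X.presheaf.map (homOfLE hW).op
          (X.presheaf.map (homOfLE (le_top : X.basicOpen (gl A X a) ≤ ⊤)).op (gl A X a)) := by
      rw [← X.presheaf.map_comp_apply]
      rfl
    rw [h2]
    exact h1.map _
  have key : ∀ s : Γ(M, W), s = 0 := by
    intro s
    have h3 : X.presheaf.map (homOfLE (le_top : W ≤ ⊤)).op (gl A X a) • s = 0 := by
      rw [← smulMod_app, h]
      rfl
    obtain ⟨u, hu'⟩ := hu
    rw [← hu'] at h3
    calc s = (↑u⁻¹ * ↑u : Γ(X, W)) • s := by rw [Units.inv_mul, one_smul]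
      _ = 0 := by rw [mul_smul, h3, smul_zero]
  rw [key s, key t]

lemma subsingleton_of_killedBy (J : Ideal A) (M : X.Modules) (h : Formal.KilledBy J M)
    (W : X.Opens)
    (hW : ∀ w ∈ W, ∃ a ∈ J, a ∉ ((X ↘ Spec (CommRingCat.of A)).base w).asIdeal) :
    Subsingleton Γ(M, W) := by
  have key : ∀ s : Γ(M, W), s = 0 := by
    intro s
    apply QC.section_eq_zero_of_cover M (fun a : J => W ⊓ X.basicOpen (gl A X (a : A)))
      (fun a => inf_le_left)
    · intro w hw
      obtain ⟨a, ha, haw⟩ := hW w hw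
      exact Opens.mem_iSup.2 ⟨⟨a, ha⟩, hw, (mem_basicOpen_gl a w).2 haw⟩
    · intro a
      haveI := subsingleton_of_le_basicOpen M (a : A) (h a a.2)
        (W ⊓ X.basicOpen (gl A X (a : A))) inf_le_right
      exact Subsingleton.elim _ _
  exact ⟨fun s t => by rw [key s, key t]⟩

end Groth.Agent.LD.Stein
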