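import Groth.Agent.Lib.Lead.RS.Coherent
import Groth.Agent.Lib.Lead.PF.ProjFinite
import Groth.Agent.Lib.Lead.PF.LocalVanish
import Mathlib.AlgebraicGeometry.Normalization
import Mathlib.AlgebraicGeometry.Morphisms.Finite

/-! # Finiteness of `f_* O_X` and of the relative normalization for proper `f` (Stein factorization,
Noetherian case). -/

set_option autoImplicit false
universe u
open CategoryTheory Limits Opposite TopologicalSpace AlgebraicGeometry

namespace Groth.Agent.LD.Stein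

open Groth.Agent.LD

variable {X S : Scheme.{u}} (f : X ⟶ S)

/-- the structure morphism `f⁻¹U → Spec Γ(S, U)`. -/
noncomputable def gU (U : S.Opens) : (f ⁻¹ᵁ U).toScheme ⟶ Spec Γ(S, U) :=
  (f ⁻¹ᵁ U).toSpecΓ ≫ Spec.map (f.app U)

lemma gU_eq (U : S.Opens) (hU : IsAffineOpen U) : gU f U = (f ∣_ U) ≫ hU.isoSpec.hom := by
  rw [← cancel_mono hU.fromSpec]
  simp [gU]

lemma aux_gU (U : S.Opens) :
    (Scheme.ΓSpecIso Γ(S, U)).inv ≫ (gU f U).appTop = f.app U ≫ (f ⁻¹ᵁ U).topIso.inv := by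
  rw [gU, Scheme.Hom.comp_appTop, Scheme.Opens.toSpecΓ_appTop, ← Category.assoc,
    ← Scheme.ΓSpecIso_inv_naturality, Category.assoc, Iso.inv_hom_id_assoc]

lemma toGlobal_gU (U : S.Opens) (x : Γ(S, U)) :
    (show Γ((f ⁻¹ᵁ U).toScheme, ⊤) from Coh.toGlobal (A := Γ(S, U)) (gU f U) x) =
      (f.app U ≫ (f ⁻¹ᵁ U).topIso.inv).hom x := by
  rw [← aux_gU]
  rfl

/-- **finiteness of `f_* O_X`** for proper `f` over a locally Noetherian base. -/
theorem finite_app_of_isProper (hfin : RS.FinCoh.{u}) [IsProper f] [IsLocallyNoetherian S]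
    (U : S.Opens) (hU : IsAffineOpen U) : (f.app U).hom.Finite := by
  letI : (f ⁻¹ᵁ U).toScheme.Over (Spec (CommRingCat.of Γ(S, U))) := ⟨gU f U⟩
  haveI : IsProper ((f ⁻¹ᵁ U).toScheme ↘ Spec (CommRingCat.of Γ(S, U))) := by
    change IsProper (gU f U)
    rw [gU_eq f U hU]
    infer_instance
  haveI : IsNoetherianRing Γ(S, U) := IsLocallyNoetherian.component_noetherian ⟨U, hU⟩
  haveI := hfin Γ(S, U) (f ⁻¹ᵁ U).toScheme (QC.unitMod _) (PF.isCoh_unitMod _) 0
  have h1 := PF.finite_Γ_of_finite_HH Γ(S, U) (QC.unitMod (f ⁻¹ᵁ U).toScheme)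
  -- transport
  have h2 : (f.app U ≫ (f ⁻¹ᵁ U).topIso.inv).hom.Finite := by
    letI := (f.app U ≫ (f ⁻¹ᵁ U).topIso.inv).hom.toAlgebra
    change Module.Finite Γ(S, U) Γ((f ⁻¹ᵁ U).toScheme, ⊤)
    letI := PF.moduleΓ Γ(S, U) (QC.unitMod (f ⁻¹ᵁ U).toScheme)
    let φ : ((QC.unitMod (f ⁻¹ᵁ U).toScheme).val.obj (op ⊤)) →ₗ[Γ(S, U)]
        Γ((f ⁻¹ᵁ U).toScheme, ⊤) :=
      { toFun := fun x => x
        map_add' := fun _ _ => rfl
        map_smul' := fun r x => by
          change (show Γ((f ⁻¹ᵁ U).toScheme, ⊤) from Coh.toGlobal (A := Γ(S, U)) (gU f U) r) *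
            (show Γ((f ⁻¹ᵁ U).toScheme, ⊤) from x) = _
          rw [toGlobal_gU]
          rfl }
    exact Module.Finite.of_surjective φ (fun x => ⟨x, rfl⟩)
  have h3 : f.app U = (f.app U ≫ (f ⁻¹ᵁ U).topIso.inv) ≫ (f ⁻¹ᵁ U).topIso.hom := by
    rw [Category.assoc, Iso.inv_hom_id, Category.comp_id]
  rw [h3, CommRingCat.hom_comp]
  exact RingHom.Finite.comp (RingHom.Finite.of_surjective _
    (ConcreteCategory.bijective_of_isIso (f ⁻¹ᵁ U).topIso.hom).2) h2

/-- **Stein factorization, Noetherian case**: the relative normalization is finite. -/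
theorem isFinite_fromNormalization (hfin : RS.FinCoh.{u}) [IsProper f] [IsLocallyNoetherian S] :
    IsFinite f.fromNormalization := by
  refine ⟨fun U hU => ?_⟩
  rw [f.fromNormalization_app hU]
  letI := (f.app U).hom.toAlgebra
  haveI : Module.Finite Γ(S, U) Γ(X, f ⁻¹ᵁ U) := finite_app_of_isProper f hfin U hU
  haveI : IsNoetherianRing Γ(S, U) := IsLocallyNoetherian.component_noetherian ⟨U, hU⟩
  haveI : Module.Finite Γ(S, U) (integralClosure Γ(S, U) Γ(X, f ⁻¹ᵁ U)) :=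
    Module.Finite.of_injective (Subalgebra.val _).toLinearMap Subtype.val_injective
  rw [CommRingCat.hom_comp]
  refine RingHom.Finite.comp (RingHom.Finite.of_surjective _
    (ConcreteCategory.bijective_of_isIso (f.normalizationObjIso hU).inv).2) ?_
  exact RingHom.finite_algebraMap.mpr inferInstance

end Groth.Agent.LD.Stein
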