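import Groth.Agent.Lib.Lead.Stein.ZariskiGeom
import Groth.Agent.Lib.Lead.Stein.FiniteNorm
import Mathlib.AlgebraicGeometry.Morphisms.QuasiFinite

/-! # Stein factorization (Noetherian case): fibres of `X → Y'` are connected. -/

set_option autoImplicit false
universe u
open CategoryTheory Limits Opposite TopologicalSpace AlgebraicGeometry

namespace Groth.Agent.LD.Stein

open Groth.Agent.LD

variable {X Y : Scheme.{u}} (f : X ⟶ Y)

instance isProper_toNormalization [IsProper f] : IsProper f.toNormalization := by
  haveI : IsProper (f.toNormalization ≫ f.fromNormalization) := by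
    rw [f.toNormalization_fromNormalization]
    infer_instance
  exact IsProper.of_comp f.toNormalization f.fromNormalization

lemma isIso_toNormalization_app (hfin : RS.FinCoh.{u}) [IsProper f] [IsLocallyNoetherian Y]
    (U : Y.affineOpens) : IsIso (f.toNormalization.app (f.fromNormalization ⁻¹ᵁ U.1)) := by
  letI := (f.app U.1).hom.toAlgebra
  have h := f.toNormalization_app_preimage U
  dsimp only at h
  rw [h]
  haveI : Module.Finite Γ(Y, U.1) Γ(X, f ⁻¹ᵁ U.1) := finite_app_of_isProper f hfin U.1 U.2
  have htop : integralClosure Γ(Y, U.1) Γ(X, f ⁻¹ᵁ U.1) = ⊤ := by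
    rw [integralClosure_eq_top_iff]
    exact Algebra.IsIntegral.of_finite _ _
  have hmid : IsIso (CommRingCat.ofHom
      (integralClosure ↑Γ(Y, U.1) ↑Γ(X, f ⁻¹ᵁ U.1)).val.toRingHom) := by
    rw [htop]
    exact inferInstanceAs (IsIso (Subalgebra.topEquiv
      (R := Γ(Y, U.1)) (A := ↑Γ(X, f ⁻¹ᵁ U.1))).toCommRingCatIso.hom)
  exact IsIso.comp_isIso' inferInstance (IsIso.comp_isIso' hmid inferInstance)

lemma isLocallyNoetherian_normalization (hfin : RS.FinCoh.{u}) [IsProper f]
    [IsLocallyNoetherian Y] : IsLocallyNoetherian f.normalization := by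
  haveI := isFinite_fromNormalization f hfin
  exact LocallyOfFiniteType.isLocallyNoetherian f.fromNormalization

/-- the fibres of `X → Y'` are connected (and nonempty). -/
theorem isConnected_preimage_toNormalization (hfin : RS.FinCoh.{u}) (hF : PS.FormalBijHyp.{u})
    [IsProper f] [IsLocallyNoetherian Y] (y' : f.normalization) :
    _root_.IsConnected (f.toNormalization.base ⁻¹' {y'}) := by
  haveI := isLocallyNoetherian_normalization f hfin
  obtain ⟨_, ⟨U, hU, rfl⟩, hyU, -⟩ :=
    Y.isBasis_affineOpens.exists_subset_of_mem_open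
      (Set.mem_univ (f.fromNormalization.base y')) isOpen_univ
  exact isConnected_preimage_singleton f.toNormalization y' hF (f.fromNormalization ⁻¹ᵁ U)
    (hU.preimage f.fromNormalization) hyU (isIso_toNormalization_app f hfin ⟨U, hU⟩)

lemma surjective_toNormalization (hfin : RS.FinCoh.{u}) (hF : PS.FormalBijHyp.{u})
    [IsProper f] [IsLocallyNoetherian Y] : Function.Surjective f.toNormalization.base := by
  intro y'
  obtain ⟨x, hx⟩ := (isConnected_preimage_toNormalization f hfin hF y').1
  exact ⟨x, hx⟩

end Groth.Agent.LD.Stein
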