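import Groth.Agent.Lib.Lead.Stein.Zariski
import Groth.Agent.Lib.Helper1.FibGeomConn

/-! # Zariski's connectedness theorem: geometric connectedness of the fibres. -/

set_option autoImplicit false
universe u
open CategoryTheory Limits Opposite TopologicalSpace AlgebraicGeometry

namespace Groth.Agent.LD.Stein

open Groth.Agent.LD

variable {X Y : Scheme.{u}} (f : X ⟶ Y)

/-- flat base change of the condition `O_Y(U) ≅ O_X(f⁻¹U)`. -/
lemma isIso_app_snd_of_flat [QuasiCompact f] [QuasiSeparated f] {T : Scheme.{u}} (g : T ⟶ Y)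
    [Flat g] (U : Y.Opens) (hU : IsAffineOpen U) (V : T.Opens) (hV : IsAffineOpen V)
    (hle : V ≤ g ⁻¹ᵁ U) (hiso : IsIso (f.app U)) : IsIso ((pullback.snd f g).app V) := by
  have H : IsPullback (pullback.fst f g) (pullback.snd f g) f g := IsPullback.of_hasPullback f g
  have hUSX : f ⁻¹ᵁ U ≤ f ⁻¹ᵁ U := le_rfl
  have hUY : (pullback.snd f g) ⁻¹ᵁ V =
      (pullback.fst f g) ⁻¹ᵁ (f ⁻¹ᵁ U) ⊓ (pullback.snd f g) ⁻¹ᵁ V := by
    refine le_antisymm (le_inf ?_ le_rfl) inf_le_right
    intro p hp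
    change f.base ((pullback.fst f g).base p) ∈ U
    have h1 : f.base ((pullback.fst f g).base p) = g.base ((pullback.snd f g).base p) := by
      rw [← Scheme.Hom.comp_apply, ← Scheme.Hom.comp_apply, pullback.condition]
    rw [h1]
    exact hle hp
  have h1 := isIso_pushoutSection_of_isQuasiSeparated_of_flat_right H hle hUSX hUY hU hV
    (f.isCompact_preimage hU.isCompact) (f.isQuasiSeparated_preimage hU.isQuasiSeparated)
  haveI : IsIso (f.appLE U (f ⁻¹ᵁ U) hUSX) := by
    rw [← Scheme.Hom.app_eq_appLE]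
    exact hiso
  have h2 : pushout.inr (f.appLE U (f ⁻¹ᵁ U) hUSX) (g.appLE U V hle) ≫
      pushoutSection H hle hUSX hUY = (pullback.snd f g).appLE V _ (by simp) :=
    pushout.inr_desc _ _ _
  rw [Scheme.Hom.app_eq_appLE, ← h2]
  infer_instance

theorem connectedSpace_fiber (hF : PS.FormalBijHyp.{u}) [IsProper f] [IsLocallyNoetherian Y]
    (y : Y) (U : Y.Opens) (hU : IsAffineOpen U) (hy : y ∈ U) (hiso : IsIso (f.app U)) :
    ConnectedSpace (f.fiber y) := by
  have h := isConnected_preimage_singleton f y hF U hU hy hiso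
  rw [isConnected_iff_connectedSpace] at h
  exact (f.fiberHomeo y).connectedSpace_iff.2 h

/-- **Zariski's connectedness theorem.** -/
theorem zariski_connectedness (hF : PS.FormalBijHyp.{u}) [IsProper f] [IsLocallyNoetherian Y]
    (hf : ∀ U : Y.Opens, IsIso (f.app U)) :
    (∀ y : Y, ConnectedSpace (f.fiber y)) ∧ GeometricallyConnected f := by
  refine ⟨fun y => ?_, ?_⟩
  · obtain ⟨_, ⟨U, hU, rfl⟩, hyU, -⟩ :=
      Y.isBasis_affineOpens.exists_subset_of_mem_open (Set.mem_univ y) isOpen_univ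
    exact connectedSpace_fiber f hF y U hU hyU (hf U)
  · rw [GeometricallyConnected.iff_geometricallyConnected_fiber]
    intro s
    rw [Groth.Agent.H1.FibGeomConn.s1355]
    intro T g t hg hts
    haveI : Flat g := inferInstance
    haveI : IsLocallyNoetherian T := LocallyOfFiniteType.isLocallyNoetherian g
    obtain ⟨_, ⟨U, hU, rfl⟩, hyU, -⟩ :=
      Y.isBasis_affineOpens.exists_subset_of_mem_open (Set.mem_univ (g.base t)) isOpen_univ
    obtain ⟨_, ⟨V, hV, rfl⟩, htV, hVU⟩ :=
      T.isBasis_affineOpens.exists_subset_of_mem_open (show t ∈ (g ⁻¹ᵁ U : Set T) from hyU)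
        (g ⁻¹ᵁ U).2
    exact connectedSpace_fiber (pullback.snd f g) hF t V hV htV
      (isIso_app_snd_of_flat f g U hU V hV hVU (hf U))

end Groth.Agent.LD.Stein
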