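import Groth.Agent.Lib.Lead.Stein.Local
import Groth.Agent.Lib.Lead.Stein.FiniteNorm
import Mathlib.AlgebraicGeometry.FunctionField
import Groth.Prelude.Def_ega3

/-! # EGA III 4.3.12: function field algebraically closed + normal point ⇒ `O_Y ≅ f_*O_X`
near the point. -/

set_option autoImplicit false
universe u
open CategoryTheory Limits Opposite TopologicalSpace AlgebraicGeometry

namespace Groth.Agent.LD.Stein

open Groth.Agent.LD

variable {X Y : Scheme.{u}} (f : X ⟶ Y)

/-- criterion for bijectivity on a basic open. -/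
lemma isIso_app_basicOpen_of [QuasiCompact f] [QuasiSeparated f] {U : Y.Opens}
    (hU : IsAffineOpen U) (r : Γ(Y, U))
    (h1 : ∀ a : Γ(Y, U), (f.app U).hom a = 0 → ∃ n : ℕ, r ^ n * a = 0)
    (h2 : ∀ b : Γ(X, f ⁻¹ᵁ U), ∃ (a : Γ(Y, U)) (m : ℕ),
      (f.app U).hom a = (f.app U).hom r ^ m * b) :
    IsIso (f.app (Y.basicOpen r)) := by
  have := hU.isLocalization_basicOpen r
  have := isLocalization_basicOpen_of_qcqs (U := f ⁻¹ᵁ U)
      (QuasiCompact.isCompact_preimage (f := f) _ U.isOpen hU.isCompact)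
      (f.isQuasiSeparated_preimage hU.isQuasiSeparated) (f.app U r)
  rw [app_basicOpen_eq_away_map_of_qcqs f hU r]
  have h1 : IsIso (CommRingCat.ofHom
        (IsLocalization.Away.map Γ(Y, Y.basicOpen r) Γ(X, X.basicOpen (f.app U r))
          (f.app U).hom r)) := by
    rw [ConcreteCategory.isIso_iff_bijective]
    exact ⟨(IsLocalization.Away.map_injective_iff _ _ _).2 h1,
      (IsLocalization.Away.map_surjective_iff _ _ _ _).2 h2⟩
  infer_instance

variable [IsIntegral X] [IsIntegral Y]

lemma genericPoint_eq_of_specializes (hdom : f.base (genericPoint X) ⤳ genericPoint Y) :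
    f.base (genericPoint X) = genericPoint Y :=
  (hdom.antisymm ((genericPoint_spec Y).specializes trivial)).eq

lemma genericPoint_mem_preimage (hdom : f.base (genericPoint X) ⤳ genericPoint Y)
    (U : Y.Opens) [h : Nonempty U] : genericPoint X ∈ f ⁻¹ᵁ U := by
  change f.base (genericPoint X) ∈ U
  rw [genericPoint_eq_of_specializes f hdom]
  exact ((genericPoint_spec Y).mem_open_set_iff U.isOpen).mpr (by simpa using h)

lemma stalkToFunctionField_germ (hdom : f.base (genericPoint X) ⤳ genericPoint Y)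
    (U : Y.Opens) [Nonempty U] (a : Γ(Y, U)) :
    CohIII.stalkToFunctionField f (genericPoint Y) hdom (Y.germToFunctionField U a) =
      X.presheaf.germ (f ⁻¹ᵁ U) (genericPoint X) (genericPoint_mem_preimage f hdom U)
        (f.app U a) := by
  have hcomp : Y.germToFunctionField U ≫ Y.presheaf.stalkSpecializes hdom ≫
      f.stalkMap (genericPoint X) =
      f.app U ≫ X.presheaf.germ (f ⁻¹ᵁ U) (genericPoint X)
        (genericPoint_mem_preimage f hdom U) := by
    change Y.presheaf.germ U _ _ ≫ Y.presheaf.stalkSpecializes hdom ≫ _ = _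
    rw [← Category.assoc, TopCat.Presheaf.germ_stalkSpecializes, Scheme.Hom.germ_stalkMap]
  exact congr($(hcomp).hom a)

lemma stalkToFunctionField_comp (hdom : f.base (genericPoint X) ⤳ genericPoint Y)
    (U : Y.Opens) [Nonempty U] :
    (CohIII.stalkToFunctionField f (genericPoint Y) hdom).comp
        (algebraMap Γ(Y, U) Y.functionField) =
      (X.presheaf.germ (f ⁻¹ᵁ U) (genericPoint X) (genericPoint_mem_preimage f hdom U)).hom.comp
        (f.app U).hom := by
  ext a
  exact stalkToFunctionField_germ f hdom U a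

lemma app_injective_of_dominant (hdom : f.base (genericPoint X) ⤳ genericPoint Y)
    (U : Y.Opens) [Nonempty U] : Function.Injective (f.app U).hom := by
  intro a a' haa
  apply Y.germToFunctionField_injective U
  apply (CohIII.stalkToFunctionField f (genericPoint Y) hdom).injective
  rw [stalkToFunctionField_germ, stalkToFunctionField_germ, haa]

/-- the key algebraic step: every section of `O_X` over `f⁻¹U₀` becomes a section of `O_Y` after
multiplication by a function not vanishing at the normal point `y`. -/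
lemma exists_mul_eq_app (hfin : RS.FinCoh.{u}) [IsProper f] [IsLocallyNoetherian Y]
    (hdom : f.base (genericPoint X) ⤳ genericPoint Y)
    (halg : ∀ x : X.functionField,
      (∃ q : Polynomial Y.functionField, q ≠ 0 ∧
        Polynomial.eval₂ (CohIII.stalkToFunctionField f (genericPoint Y) hdom) x q = 0) →
      x ∈ Set.range (CohIII.stalkToFunctionField f (genericPoint Y) hdom))
    (y : Y) (hy : IsIntegrallyClosed (Y.presheaf.stalk y))
    (U : Y.Opens) (hU : IsAffineOpen U) (hyU : y ∈ U) (b : Γ(X, f ⁻¹ᵁ U)) :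
    ∃ t : Γ(Y, U), t ∉ (hU.primeIdealOf ⟨y, hyU⟩).asIdeal ∧
      ∃ a : Γ(Y, U), (f.app U).hom t * b = (f.app U).hom a := by
  haveI : Nonempty U := ⟨⟨y, hyU⟩⟩
  set ψ := CohIII.stalkToFunctionField f (genericPoint Y) hdom with hψ
  have hX := genericPoint_mem_preimage f hdom U
  set gX := (X.presheaf.germ (f ⁻¹ᵁ U) (genericPoint X) hX).hom with hgX
  have hgXinj : Function.Injective gX := germ_injective_of_isIntegral X _ hX
  letI := (f.app U).hom.toAlgebra
  haveI : Module.Finite Γ(Y, U) Γ(X, f ⁻¹ᵁ U) := finite_app_of_isProper f hfin U hU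
  have hcomp : ψ.comp (algebraMap Γ(Y, U) Y.functionField) =
      gX.comp (algebraMap Γ(Y, U) Γ(X, f ⁻¹ᵁ U)) := stalkToFunctionField_comp f hdom U
  obtain ⟨p, hpm, hpb⟩ : IsIntegral Γ(Y, U) b := Algebra.IsIntegral.isIntegral b
  -- the germ of `b` is algebraic over `K(Y)`
  have hgb : Polynomial.eval₂ (gX.comp (algebraMap Γ(Y, U) Γ(X, f ⁻¹ᵁ U))) (gX b) p = 0 := by
    rw [← Polynomial.hom_eval₂, hpb, map_zero]
  obtain ⟨β, hβ⟩ := halg (gX b) ⟨p.map (algebraMap Γ(Y, U) Y.functionField),
    (hpm.map _).ne_zero, by rw [Polynomial.eval₂_map, hcomp]; exact hgb⟩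
  -- `β` is integral over `Γ(Y, U)`, hence over the stalk
  have hβint : IsIntegral Γ(Y, U) β := by
    refine ⟨p, hpm, ?_⟩
    apply ψ.injective
    rw [map_zero, Polynomial.hom_eval₂, hcomp, hβ]
    exact hgb
  letI := TopCat.Presheaf.algebra_section_stalk Y.presheaf (⟨y, hyU⟩ : U)
  haveI := functionField_isScalarTower Y U ⟨y, hyU⟩
  have hβint' : IsIntegral (Y.presheaf.stalk y) β := hβint.tower_top
  obtain ⟨c, hc⟩ := (IsIntegrallyClosed.isIntegral_iff (R := Y.presheaf.stalk y)
      (K := Y.functionField)).1 hβint'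
  haveI := hU.isLocalization_stalk ⟨y, hyU⟩
  obtain ⟨⟨a, t⟩, hat⟩ := IsLocalization.surj (hU.primeIdealOf ⟨y, hyU⟩).asIdeal.primeCompl c
  refine ⟨t.1, t.2, a, ?_⟩
  apply hgXinj
  have h1 := congr(algebraMap (Y.presheaf.stalk y) Y.functionField $hat)
  rw [map_mul, hc, ← IsScalarTower.algebraMap_apply, ← IsScalarTower.algebraMap_apply] at h1
  have h2 := congr(ψ $h1)
  rw [map_mul, hβ] at h2
  have h3 : ∀ a' : Γ(Y, U), ψ (algebraMap Γ(Y, U) Y.functionField a') =
      gX ((f.app U).hom a') := fun a' => congr($hcomp a')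
  rw [h3, h3] at h2
  rw [map_mul, mul_comm]
  exact h2

/-- EGA III 4.3.12, first half: an affine neighbourhood `U` of the normal point `y` with
`O_Y(U) ≅ O_X(f⁻¹U)`. -/
theorem exists_affine_isIso_app (hfin : RS.FinCoh.{u}) [IsProper f] [IsLocallyNoetherian Y]
    (hdom : f.base (genericPoint X) ⤳ genericPoint Y)
    (halg : ∀ x : X.functionField,
      (∃ q : Polynomial Y.functionField, q ≠ 0 ∧
        Polynomial.eval₂ (CohIII.stalkToFunctionField f (genericPoint Y) hdom) x q = 0) →
      x ∈ Set.range (CohIII.stalkToFunctionField f (genericPoint Y) hdom))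
    (y : Y) (hy : IsIntegrallyClosed (Y.presheaf.stalk y)) :
    ∃ U : Y.Opens, IsAffineOpen U ∧ y ∈ U ∧ IsIso (f.app U) := by
  obtain ⟨_, ⟨U, hU, rfl⟩, hyU, -⟩ :=
    Y.isBasis_affineOpens.exists_subset_of_mem_open (Set.mem_univ y) isOpen_univ
  haveI : Nonempty U := ⟨⟨y, hyU⟩⟩
  letI := (f.app U).hom.toAlgebra
  haveI : Module.Finite Γ(Y, U) Γ(X, f ⁻¹ᵁ U) := finite_app_of_isProper f hfin U hU
  set P := hU.primeIdealOf ⟨y, hyU⟩ with hP
  let Q := Γ(X, f ⁻¹ᵁ U) ⧸ LinearMap.range (Algebra.linearMap Γ(Y, U) Γ(X, f ⁻¹ᵁ U))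
  have hsupp : P ∉ Module.support Γ(Y, U) Q := by
    rw [Module.notMem_support_iff']
    intro m
    obtain ⟨b, rfl⟩ := Submodule.Quotient.mk_surjective _ m
    obtain ⟨t, ht, a, hta⟩ := exists_mul_eq_app f hfin hdom halg y hy U hU hyU b
    refine ⟨t, ht, ?_⟩
    rw [← Submodule.Quotient.mk_smul, Submodule.Quotient.mk_eq_zero]
    exact ⟨a, by rw [Algebra.linearMap_apply, Algebra.smul_def]; exact hta.symm⟩
  rw [Module.mem_support_iff_of_finite, SetLike.not_le_iff_exists] at hsupp
  obtain ⟨s, hs, hsP⟩ := hsupp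
  refine ⟨Y.basicOpen s, hU.basicOpen s, ?_, ?_⟩
  · have h1 : hU.fromSpec P ∈ Y.basicOpen s := by
      change P ∈ hU.fromSpec ⁻¹ᵁ Y.basicOpen s
      rw [hU.fromSpec_preimage_basicOpen]
      exact hsP
    rwa [hP, hU.fromSpec_primeIdealOf] at h1
  · apply isIso_app_basicOpen_of f hU s
    · intro a ha
      refine ⟨0, ?_⟩
      rw [pow_zero, one_mul]
      apply app_injective_of_dominant f hdom U
      rw [ha, map_zero]
    · intro b
      rw [Module.mem_annihilator] at hs
      have h1 := hs (Submodule.Quotient.mk b)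
      rw [← Submodule.Quotient.mk_smul, Submodule.Quotient.mk_eq_zero] at h1
      obtain ⟨a, ha⟩ := h1
      refine ⟨a, 1, ?_⟩
      rw [pow_one]
      rw [Algebra.linearMap_apply, Algebra.smul_def] at ha
      exact ha

end Groth.Agent.LD.Stein
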