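import Groth.Agent.Lib.Lead.Stein.ZariskiGeom
import Groth.Agent.Lib.Lead.QC.FibrationPic

/-! # `O_Y(U) ≅ O_X(f⁻¹U)` for an affine open `U` propagates to all smaller opens. -/

set_option autoImplicit false
universe u
open CategoryTheory Limits Opposite TopologicalSpace AlgebraicGeometry

namespace Groth.Agent.LD.Stein

open Groth.Agent.LD

variable {X Y : Scheme.{u}} (f : X ⟶ Y)

set_option backward.isDefEq.respectTransparency false in
lemma app_basicOpen_eq_away_map_of_qcqs [QuasiCompact f] [QuasiSeparated f] {U : Y.Opens}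
    (hU : IsAffineOpen U) (r : Γ(Y, U)) :
    haveI := hU.isLocalization_basicOpen r
    haveI := isLocalization_basicOpen_of_qcqs (U := f ⁻¹ᵁ U)
      (QuasiCompact.isCompact_preimage (f := f) _ U.isOpen hU.isCompact)
      (f.isQuasiSeparated_preimage hU.isQuasiSeparated) (f.app U r)
    f.app (Y.basicOpen r) =
      (CommRingCat.ofHom
        (IsLocalization.Away.map Γ(Y, Y.basicOpen r) Γ(X, X.basicOpen (f.app U r)) (f.app U).hom r)
        ≫ X.presheaf.map (eqToHom (by simp)).op) := by
  have := hU.isLocalization_basicOpen r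
  have := isLocalization_basicOpen_of_qcqs (U := f ⁻¹ᵁ U)
      (QuasiCompact.isCompact_preimage (f := f) _ U.isOpen hU.isCompact)
      (f.isQuasiSeparated_preimage hU.isQuasiSeparated) (f.app U r)
  ext : 1
  apply IsLocalization.ringHom_ext (.powers r)
  rw [IsLocalization.Away.map, CommRingCat.hom_comp, RingHom.comp_assoc, CommRingCat.hom_ofHom,
    IsLocalization.map_comp, RingHom.algebraMap_toAlgebra,
    RingHom.algebraMap_toAlgebra, ← RingHom.comp_assoc, ← CommRingCat.hom_comp,
    ← CommRingCat.hom_comp, ← X.presheaf.map_comp]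
  simp

/-- if `O_Y(U) → O_X(f⁻¹U)` is bijective for an affine open `U` (and `f` is qcqs), the same
holds for every basic open of `U`. -/
lemma isIso_app_basicOpen [QuasiCompact f] [QuasiSeparated f] {U : Y.Opens}
    (hU : IsAffineOpen U) (hiso : IsIso (f.app U)) (r : Γ(Y, U)) :
    IsIso (f.app (Y.basicOpen r)) := by
  have := hU.isLocalization_basicOpen r
  have := isLocalization_basicOpen_of_qcqs (U := f ⁻¹ᵁ U)
      (QuasiCompact.isCompact_preimage (f := f) _ U.isOpen hU.isCompact)
      (f.isQuasiSeparated_preimage hU.isQuasiSeparated) (f.app U r)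
  rw [app_basicOpen_eq_away_map_of_qcqs f hU r]
  have hb : Function.Bijective (f.app U).hom :=
    (ConcreteCategory.isIso_iff_bijective (f.app U)).1 hiso
  have h1 : IsIso (CommRingCat.ofHom
        (IsLocalization.Away.map Γ(Y, Y.basicOpen r) Γ(X, X.basicOpen (f.app U r))
          (f.app U).hom r)) := by
    rw [ConcreteCategory.isIso_iff_bijective]
    constructor
    · apply (IsLocalization.Away.map_injective_iff _ _ _).2
      intro a ha
      refine ⟨0, ?_⟩
      rw [pow_zero, one_mul]
      apply hb.1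
      rw [ha, map_zero]
    · apply (IsLocalization.Away.map_surjective_iff _ _ _ _).2
      intro a
      obtain ⟨b, hb'⟩ := hb.2 a
      exact ⟨b, 0, by rw [pow_zero, one_mul]; exact hb'⟩
  infer_instance

/-- if `O_Y(U) → O_X(f⁻¹U)` is bijective for an affine open `U` (and `f` is qcqs), the same
holds for every open contained in `U`. -/
theorem isIso_app_of_le [QuasiCompact f] [QuasiSeparated f] {U : Y.Opens}
    (hU : IsAffineOpen U) (hiso : IsIso (f.app U)) (V : Y.Opens) (hV : V ≤ U) :
    IsIso (f.app V) := by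
  haveI : IsIso ((Scheme.Modules.restrictFunctor U.ι).map (QC.unitToPush f)) := by
    apply QC.isIso_of_local_bijective
    intro y W hy
    obtain ⟨r, hr1, hr2⟩ := hU.exists_basicOpen_le (V := U.ι ''ᵁ W) ⟨y.1, ⟨y, hy, rfl⟩⟩ y.2
    have hrU : Y.basicOpen r ≤ U := Y.basicOpen_le r
    have hV' : U.ι ''ᵁ (U.ι ⁻¹ᵁ (Y.basicOpen r)) = Y.basicOpen r := by
      rw [Scheme.Hom.image_preimage_eq_opensRange_inf, Scheme.Opens.opensRange_ι]
      exact inf_eq_right.2 hrU
    refine ⟨U.ι ⁻¹ᵁ (Y.basicOpen r), hr2, ?_, ?_⟩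
    · intro z hz
      obtain ⟨w, hw, hwz⟩ := hr1 hz
      have : w = z := U.ι.isOpenEmbedding.injective hwz
      exact this ▸ hw
    · change Function.Bijective ((QC.unitToPush f).app (U.ι ''ᵁ (U.ι ⁻¹ᵁ (Y.basicOpen r))))
      rw [hV']
      have h1 : Function.Bijective (f.app (Y.basicOpen r)).hom :=
        (ConcreteCategory.isIso_iff_bijective _).mp (isIso_app_basicOpen f hU hiso r)
      have h2 : ⇑(ConcreteCategory.hom ((QC.unitToPush f).app (Y.basicOpen r))) =
          fun b => (f.app (Y.basicOpen r)).hom b := by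
        funext b
        exact QC.unitToPush_app f _ b
      rw [h2]
      exact h1
  have h := (QC.isIso_restrict_iff (QC.unitToPush f) U).1 inferInstance V hV
  have h2 : ⇑(ConcreteCategory.hom ((QC.unitToPush f).app V)) =
      fun b => (f.app V).hom b := by
    funext b
    exact QC.unitToPush_app f _ b
  rw [h2] at h
  exact (ConcreteCategory.isIso_iff_bijective (f.app V)).2 h

/-- geometric connectedness of the fibre at `y` from `O_Y(U) ≅ O_X(f⁻¹U)` for one affine
neighbourhood `U` of `y`. -/
theorem geometricallyConnected_fiber (hF : PS.FormalBijHyp.{u}) [IsProper f]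
    [IsLocallyNoetherian Y] (y : Y) (U : Y.Opens) (hU : IsAffineOpen U) (hy : y ∈ U)
    (hiso : IsIso (f.app U)) : GeometricallyConnected (f.fiberToSpecResidueField y) := by
  rw [Groth.Agent.H1.FibGeomConn.s1355]
  intro T g t hg hts
  haveI : Flat g := inferInstance
  haveI : IsLocallyNoetherian T := LocallyOfFiniteType.isLocallyNoetherian g
  obtain ⟨_, ⟨V, hV, rfl⟩, htV, hVU⟩ :=
    T.isBasis_affineOpens.exists_subset_of_mem_open (show t ∈ (g ⁻¹ᵁ U : Set T) from by
      change g.base t ∈ U
      rw [hts]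
      exact hy)
      (g ⁻¹ᵁ U).2
  exact connectedSpace_fiber (pullback.snd f g) hF t V hV htV
    (isIso_app_snd_of_flat f g U hU V hV hVU hiso)

end Groth.Agent.LD.Stein
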