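import Mathlib
import Groth.Prelude.Def_CAlg2

/-! # Unibranch local rings and purely inseparable extensions: the integral closure stays local. -/

set_option autoImplicit false
universe u

namespace Groth.Agent.LD.Stein.Unibranch

variable {O K : Type u} [CommRing O] [Field K] [Algebra O K]

/-- the map `O_red → K`. -/
noncomputable def g₀ : CAlg2.red O →+* K :=
  Ideal.Quotient.lift (nilradical O) (algebraMap O K) (fun a ha => by
    obtain ⟨n, hn⟩ := (mem_nilradical.1 ha)
    have : (algebraMap O K a) ^ n = 0 := by rw [← map_pow, hn, map_zero]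
    exact IsNilpotent.eq_zero ⟨n, this⟩)

lemma g₀_mk (a : O) : g₀ (K := K) (Ideal.Quotient.mk (nilradical O) a) = algebraMap O K a := rfl

lemma g₀_injective (hinj : Function.Injective (algebraMap O K)) :
    Function.Injective (g₀ (O := O) (K := K)) := by
  rw [injective_iff_map_eq_zero]
  intro r hr
  obtain ⟨a, rfl⟩ := Ideal.Quotient.mk_surjective r
  rw [g₀_mk] at hr
  rw [hinj (hr.trans (map_zero _).symm), map_zero]

/-- if `O` is unibranch, `O ⊂ K` and every element of `K` integral over `O` has a `p^e`-th power
in the fraction field of `O`, then the integral closure of `O` in `K` is local. -/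
theorem isLocalRing_integralClosure [IsLocalRing O] (hinj : Function.Injective (algebraMap O K))
    (hO : CAlg2.IsUnibranch O)
    (hrad : ∀ z : K, IsIntegral O z → ∃ (e : ℕ) (a b : O), b ≠ 0 ∧
      z ^ (ringExpChar K ^ e) * algebraMap O K b = algebraMap O K a) :
    IsLocalRing (integralClosure O K) := by
  haveI : IsDomain (CAlg2.red O) := hO.1
  haveI : IsLocalRing (CAlg2.normRed O) := hO.2
  have hg := g₀_injective hinj
  letI : Algebra (CAlg2.red O) K := (g₀ (O := O) (K := K)).toAlgebra
  haveI : IsScalarTower O (CAlg2.red O) K := IsScalarTower.of_algebraMap_eq' rfl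
  haveI : Algebra.IsIntegral O (CAlg2.red O) :=
    Algebra.isIntegral_of_surjective Ideal.Quotient.mk_surjective
  let F := FractionRing (CAlg2.red O)
  let θ₀ : F →ₐ[CAlg2.red O] K :=
    IsFractionRing.liftAlgHom (g := Algebra.ofId (CAlg2.red O) K) hg
  have hθ₀inj : Function.Injective θ₀ := (θ₀ : F →+* K).injective
  -- integrality transfers
  have hint : ∀ v : F, IsIntegral (CAlg2.red O) v ↔ IsIntegral O (θ₀ v) := by
    intro v
    rw [← isIntegral_algHom_iff θ₀ hθ₀inj]
    exact ⟨fun h => isIntegral_trans _ h, fun h => h.tower_top⟩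
  let θ : CAlg2.normRed O →+* integralClosure O K :=
    (θ₀.toRingHom.comp (algebraMap (CAlg2.normRed O) F)).codRestrict
      (integralClosure O K).toSubring (fun v => (hint v.1).1 v.2)
  have hθv : ∀ v : CAlg2.normRed O, ((θ v : integralClosure O K) : K) = θ₀ v.1 := fun v => rfl
  have hθint : θ.IsIntegral := by
    intro c
    obtain ⟨P, hP, hPc⟩ := c.2
    refine ⟨P.map (algebraMap O (CAlg2.normRed O)), hP.map _, ?_⟩
    rw [Polynomial.eval₂_map]
    apply Subtype.ext
    have h1 : (algebraMap (integralClosure O K) K).comp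
        (θ.comp (algebraMap O (CAlg2.normRed O))) = algebraMap O K := by
      ext a
      change θ₀ (algebraMap (CAlg2.normRed O) F (algebraMap O (CAlg2.normRed O) a)) = _
      rw [← IsScalarTower.algebraMap_apply O (CAlg2.normRed O) F,
        IsScalarTower.algebraMap_apply O (CAlg2.red O) F, θ₀.commutes]
      rfl
    have h2 := Polynomial.hom_eval₂ P (θ.comp (algebraMap O (CAlg2.normRed O)))
      (algebraMap (integralClosure O K) K) c
    rw [h1] at h2
    change algebraMap (integralClosure O K) K _ = _
    rw [h2]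
    exact hPc
  haveI : Nontrivial (integralClosure O K) := inferInstance
  apply IsLocalRing.of_unique_max_ideal
  obtain ⟨m, hm⟩ := Ideal.exists_maximal (integralClosure O K)
  refine ⟨m, hm, ?_⟩
  -- any two maximal ideals coincide
  have key : ∀ m₁ m₂ : Ideal (integralClosure O K), m₁.IsMaximal → m₂.IsMaximal → m₁ ≤ m₂ := by
    intro m₁ m₂ h₁ h₂ z hz
    obtain ⟨e, a, b, hb, hab⟩ := hrad z.1 z.2
    -- the element `a / b` of the fraction field
    let v : F := algebraMap (CAlg2.red O) F (Ideal.Quotient.mk _ a) /
      algebraMap (CAlg2.red O) F (Ideal.Quotient.mk _ b)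
    have hb' : algebraMap O K b ≠ 0 := fun h0 => hb (hinj (h0.trans (map_zero _).symm))
    have hv : θ₀ v = z.1 ^ (ringExpChar K ^ e) := by
      change θ₀ (_ / _) = _
      rw [map_div₀, θ₀.commutes, θ₀.commutes]
      change algebraMap O K a / algebraMap O K b = _
      rw [← hab, mul_div_assoc, div_self hb', mul_one]
    have hvint : IsIntegral (CAlg2.red O) v := by
      rw [hint, hv]
      exact z.2.pow _
    let v' : CAlg2.normRed O := ⟨v, hvint⟩
    have hv' : θ v' = z ^ (ringExpChar K ^ e) := Subtype.ext hv
    have hc1 : (m₁.comap θ).IsMaximal :=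
      Ideal.isMaximal_comap_of_isIntegral_of_isMaximal' θ hθint m₁
    have hc2 : (m₂.comap θ).IsMaximal :=
      Ideal.isMaximal_comap_of_isIntegral_of_isMaximal' θ hθint m₂
    have h12 : m₁.comap θ = m₂.comap θ :=
      (IsLocalRing.eq_maximalIdeal hc1).trans (IsLocalRing.eq_maximalIdeal hc2).symm
    have h3 : v' ∈ m₁.comap θ := by
      rw [Ideal.mem_comap, hv']
      exact m₁.pow_mem_of_mem hz _ (pow_pos (expChar_pos K (ringExpChar K)) e)
    rw [h12, Ideal.mem_comap, hv'] at h3
    exact h₂.isPrime.mem_of_pow_mem _ h3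
  intro m' hm'
  exact le_antisymm (key m' m hm' hm) (key m m' hm hm')

end Groth.Agent.LD.Stein.Unibranch
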