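import Groth.Agent.Lib.Lead.Stein.MaxSpec
import Groth.Agent.Lib.Lead.Stein.Unibranch
import Mathlib.AlgebraicGeometry.FunctionField

/-! # EGA III 4.3.7-type statement: purely inseparable algebraic closure + unibranch point ⇒
connected fibre. -/

set_option autoImplicit false
universe u
open CategoryTheory Limits Opposite TopologicalSpace AlgebraicGeometry

namespace Groth.Agent.LD.Stein

open Groth.Agent.LD

variable {X Y : Scheme.{u}} [IsIntegral X] [IsIntegral Y] (f : X ⟶ Y)

lemma stalkToFunctionField_comp_algebraMap (hdom : f.base (genericPoint X) ⤳ genericPoint Y)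
    (y : Y) (h : f.base (genericPoint X) ⤳ y) :
    (CohIII.stalkToFunctionField f (genericPoint Y) hdom).comp
      (algebraMap (Y.presheaf.stalk y) Y.functionField) = CohIII.stalkToFunctionField f y h := by
  have h1 : Y.presheaf.stalkSpecializes ((genericPoint_spec Y).specializes trivial : genericPoint Y ⤳ y) ≫
      Y.presheaf.stalkSpecializes hdom = Y.presheaf.stalkSpecializes h :=
    TopCat.Presheaf.stalkSpecializes_comp _ _ _
  ext a
  have h2 := congr($(h1).hom a)
  change (f.stalkMap (genericPoint X)).hom ((Y.presheaf.stalkSpecializes hdom).hom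
    ((Y.presheaf.stalkSpecializes _).hom a)) = (f.stalkMap (genericPoint X)).hom _
  exact congrArg _ h2

lemma stalkToFunctionField_injective (hdom : f.base (genericPoint X) ⤳ genericPoint Y)
    (y : Y) (h : f.base (genericPoint X) ⤳ y) :
    Function.Injective (CohIII.stalkToFunctionField f y h) := by
  rw [← stalkToFunctionField_comp_algebraMap f hdom y h]
  exact (CohIII.stalkToFunctionField f (genericPoint Y) hdom).injective.comp
    (IsFractionRing.injective (Y.presheaf.stalk y) Y.functionField)

lemma surjective_of_dominant [IsProper f] (hdom : f.base (genericPoint X) ⤳ genericPoint Y) :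
    Function.Surjective f.base := by
  intro y
  have hcl : IsClosed (Set.range f.base) := f.isClosedMap.isClosed_range
  have h1 : genericPoint Y ∈ Set.range f.base :=
    hdom.mem_closed hcl ⟨genericPoint X, rfl⟩
  have h2 : y ∈ Set.range f.base :=
    ((genericPoint_spec Y).specializes (Set.mem_univ y)).mem_closed hcl h1
  exact h2

/-- EGA III 4.3.7. -/
theorem connectedSpace_fiber_of_unibranch (hfin : RS.FinCoh.{u}) (hF : PS.FormalBijHyp.{u})
    [IsProper f] [IsLocallyNoetherian Y]
    (hdom : f.base (genericPoint X) ⤳ genericPoint Y)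
    (hrad : ∀ x : X.functionField,
      (∃ q : Polynomial Y.functionField, q ≠ 0 ∧
        Polynomial.eval₂ (CohIII.stalkToFunctionField f (genericPoint Y) hdom) x q = 0) →
      ∃ e : ℕ, x ^ (ringExpChar X.functionField ^ e) ∈
        Set.range (CohIII.stalkToFunctionField f (genericPoint Y) hdom))
    (y : Y) (hy : CAlg2.IsUnibranch (Y.presheaf.stalk y)) :
    ConnectedSpace ↥(f.fiber y) := by
  have h : f.base (genericPoint X) ⤳ y :=
    hdom.trans ((genericPoint_spec Y).specializes (Set.mem_univ y))
  have hle := mk_connectedComponents_fiber_le hfin hF f y h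
  letI : Algebra (Y.presheaf.stalk y) X.functionField :=
    (CohIII.stalkToFunctionField f y h).toAlgebra
  have hcomp := stalkToFunctionField_comp_algebraMap f hdom y h
  have hinj : Function.Injective (algebraMap (Y.presheaf.stalk y) X.functionField) :=
    stalkToFunctionField_injective f hdom y h
  haveI hloc : IsLocalRing (integralClosure (Y.presheaf.stalk y) X.functionField) := by
    apply Unibranch.isLocalRing_integralClosure hinj hy
    intro z hz
    obtain ⟨P, hPm, hPz⟩ := hz
    obtain ⟨e, w, hw⟩ := hrad z ⟨P.map (algebraMap (Y.presheaf.stalk y) Y.functionField),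
      (hPm.map _).ne_zero, by rw [Polynomial.eval₂_map, hcomp]; exact hPz⟩
    obtain ⟨a, b, hb, rfl⟩ := IsFractionRing.div_surjective (Y.presheaf.stalk y) w
    refine ⟨e, a, b, nonZeroDivisors.ne_zero hb, ?_⟩
    rw [← hw]
    have h3 : ∀ c : Y.presheaf.stalk y, algebraMap (Y.presheaf.stalk y) X.functionField c =
        (CohIII.stalkToFunctionField f (genericPoint Y) hdom)
          (algebraMap (Y.presheaf.stalk y) Y.functionField c) := fun c =>
      (congr($hcomp c)).symm
    rw [h3, h3, ← map_mul]
    congr 1
    have hb0 : algebraMap (Y.presheaf.stalk y) Y.functionField b ≠ 0 := by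
      intro h0
      exact nonZeroDivisors.ne_zero hb
        (IsFractionRing.injective (Y.presheaf.stalk y) Y.functionField
          (h0.trans (map_zero _).symm))
    rw [div_mul_cancel₀ _ hb0]
  -- at most one maximal ideal
  haveI : Subsingleton (MaximalSpectrum (integralClosure (Y.presheaf.stalk y) X.functionField)) := by
    constructor
    intro m₁ m₂
    apply MaximalSpectrum.ext
    rw [IsLocalRing.eq_maximalIdeal m₁.isMaximal, IsLocalRing.eq_maximalIdeal m₂.isMaximal]
  have hle1 : Cardinal.mk (_root_.ConnectedComponents (f.fiber y)) ≤ 1 :=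
    hle.trans (Cardinal.le_one_iff_subsingleton.2 this)
  haveI := Cardinal.le_one_iff_subsingleton.1 hle1
  -- nonempty fibre
  obtain ⟨x, hx⟩ := surjective_of_dominant f hdom y
  let x₀ : f.fiber y := (f.fiberHomeo y).symm ⟨x, hx⟩
  rw [connectedSpace_iff_connectedComponent]
  refine ⟨x₀, Set.eq_univ_of_forall fun x' => ?_⟩
  have h5 : (x' : _root_.ConnectedComponents (f.fiber y)) = x₀ := Subsingleton.elim _ _
  rw [ConnectedComponents.coe_eq_coe] at h5
  rw [← h5]
  exact mem_connectedComponent

end Groth.Agent.LD.Stein
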