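import Groth.Agent.Lib.Lead.Stein.Connected
import Groth.Agent.Lib.Helper9.Misc.FLH1
import Groth.Agent.S0543
import Mathlib.AlgebraicGeometry.Morphisms.Flat
import Mathlib.AlgebraicGeometry.Fiber
import Mathlib.RingTheory.AdicCompletion.LocalRing

/-! # Zariski's connectedness theorem: reduction to the complete local case. -/

set_option autoImplicit false
universe u
open CategoryTheory Limits Opposite TopologicalSpace AlgebraicGeometry

namespace Groth.Agent.LD.Stein

open Groth.Agent.LD

variable {X Y : Scheme.{u}} (f : X ⟶ Y) (y : Y)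

section setup
variable [IsLocallyNoetherian Y]

/-- the completed local ring at `y`. -/
abbrev Ahat : Type u :=
  AdicCompletion (IsLocalRing.maximalIdeal (Y.presheaf.stalk y)) (Y.presheaf.stalk y)

instance : IsNoetherianRing (Ahat y) := Groth.Agent.S0543.result _ _

/-- `Spec Ô_{Y,y} → Y`. -/
noncomputable def hhat : Spec (CommRingCat.of (Ahat y)) ⟶ Y :=
  Spec.map (CommRingCat.ofHom (algebraMap (Y.presheaf.stalk y) (Ahat y))) ≫ Y.fromSpecStalk y

instance : Flat (hhat y) := by
  haveI := Groth.Agent.H9.FLH.flat_fromSpecStalk Y y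
  haveI : Flat (Spec.map (CommRingCat.ofHom (algebraMap (Y.presheaf.stalk y) (Ahat y)))) := by
    rw [Flat.SpecMap_iff]
    exact (RingHom.flat_algebraMap_iff).2 inferInstance
  unfold hhat
  infer_instance

lemma hhat_closedPoint : (hhat y).base (IsLocalRing.closedPoint (Ahat y)) = y := by
  unfold hhat
  rw [Scheme.Hom.comp_apply]
  have h1 : (Spec.map (CommRingCat.ofHom (algebraMap (Y.presheaf.stalk y) (Ahat y)))).base
      (IsLocalRing.closedPoint (Ahat y)) = IsLocalRing.closedPoint (Y.presheaf.stalk y) :=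
    IsLocalRing.comap_closedPoint (algebraMap (Y.presheaf.stalk y) (Ahat y))
  rw [h1]
  exact Scheme.fromSpecStalk_closedPoint

lemma hhat_mem (U : Y.Opens) (hy : y ∈ U) (t : Spec (CommRingCat.of (Ahat y))) :
    (hhat y).base t ∈ U := by
  have h1 : (hhat y).base t ⤳ (hhat y).base (IsLocalRing.closedPoint (Ahat y)) :=
    (IsLocalRing.specializes_closedPoint t).map (hhat y).continuous
  rw [hhat_closedPoint y] at h1
  exact h1.mem_open U.2 hy

/-- the base change of `X` to the completed local ring. -/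
noncomputable abbrev Xhat : Scheme.{u} := pullback f (hhat y)

noncomputable instance : (Xhat f y).Over (Spec (CommRingCat.of (Ahat y))) :=
  ⟨pullback.snd f (hhat y)⟩

lemma over_Xhat : (Xhat f y ↘ Spec (CommRingCat.of (Ahat y))) = pullback.snd f (hhat y) := rfl

instance [IsProper f] : IsProper (Xhat f y ↘ Spec (CommRingCat.of (Ahat y))) := by
  rw [over_Xhat]
  infer_instance

/-- flat base change: `Ô → Γ(X̂, O)` is bijective if `O_Y(U) → O_X(f⁻¹U)` is, for some affine
neighbourhood `U` of `y`. -/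
lemma isIso_appTop_snd [QuasiCompact f] [QuasiSeparated f] (U : Y.Opens) (hU : IsAffineOpen U)
    (hy : y ∈ U) (hiso : IsIso (f.app U)) : IsIso (pullback.snd f (hhat y)).appTop := by
  have H : IsPullback (pullback.fst f (hhat y)) (pullback.snd f (hhat y)) f (hhat y) :=
    IsPullback.of_hasPullback f (hhat y)
  have hUST : (⊤ : (Spec (CommRingCat.of (Ahat y))).Opens) ≤ (hhat y) ⁻¹ᵁ U :=
    fun t _ => hhat_mem y U hy t
  have hUSX : f ⁻¹ᵁ U ≤ f ⁻¹ᵁ U := le_rfl
  have hUY : (⊤ : (Xhat f y).Opens) =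
      (pullback.fst f (hhat y)) ⁻¹ᵁ (f ⁻¹ᵁ U) ⊓ (pullback.snd f (hhat y)) ⁻¹ᵁ ⊤ := by
    ext p
    simp only [Opens.coe_top, Set.mem_univ, Opens.coe_inf, Set.mem_inter_iff, true_iff]
    refine ⟨?_, trivial⟩
    change f.base ((pullback.fst f (hhat y)).base p) ∈ U
    have h1 : f.base ((pullback.fst f (hhat y)).base p) =
        (hhat y).base ((pullback.snd f (hhat y)).base p) := by
      rw [← Scheme.Hom.comp_apply, ← Scheme.Hom.comp_apply, pullback.condition]
    rw [h1]
    exact hhat_mem y U hy _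
  have h1 := isIso_pushoutSection_of_isQuasiSeparated_of_flat_right H hUST hUSX hUY hU
    (isAffineOpen_top _) (f.isCompact_preimage hU.isCompact)
    (f.isQuasiSeparated_preimage hU.isQuasiSeparated)
  haveI : IsIso (f.appLE U (f ⁻¹ᵁ U) hUSX) := by
    rw [← Scheme.Hom.app_eq_appLE]
    exact hiso
  have h2 : pushout.inr (f.appLE U (f ⁻¹ᵁ U) hUSX) ((hhat y).appLE U ⊤ hUST) ≫
      pushoutSection H hUST hUSX hUY = (pullback.snd f (hhat y)).appLE ⊤ ⊤ (by simp) :=
    pushout.inr_desc _ _ _
  have h3 : (pullback.snd f (hhat y)).appTop = (pullback.snd f (hhat y)).appLE ⊤ ⊤ (by simp) := by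
    rw [Scheme.Hom.appTop, Scheme.Hom.app_eq_appLE]
    rfl
  rw [h3, ← h2]
  infer_instance

lemma gl_surjective [QuasiCompact f] [QuasiSeparated f] (U : Y.Opens) (hU : IsAffineOpen U)
    (hy : y ∈ U) (hiso : IsIso (f.app U)) (x : Γ(Xhat f y, ⊤)) :
    ∃ a : Ahat y, gl (Ahat y) (Xhat f y) a = x := by
  haveI := isIso_appTop_snd f y U hU hy hiso
  obtain ⟨s, hs⟩ := (ConcreteCategory.bijective_of_isIso (pullback.snd f (hhat y)).appTop).2 x
  refine ⟨(Scheme.ΓSpecIso (CommRingCat.of (Ahat y))).hom.hom s, ?_⟩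
  change (pullback.snd f (hhat y)).appTop.hom
    ((Scheme.ΓSpecIso (CommRingCat.of (Ahat y))).inv.hom
      ((Scheme.ΓSpecIso (CommRingCat.of (Ahat y))).hom.hom s)) = x
  have h1 : (Scheme.ΓSpecIso (CommRingCat.of (Ahat y))).inv.hom
      ((Scheme.ΓSpecIso (CommRingCat.of (Ahat y))).hom.hom s) = s := by
    have h2 := (Scheme.ΓSpecIso (CommRingCat.of (Ahat y))).hom_inv_id
    exact congr($(h2).hom s)
  rw [h1]
  exact hs

lemma nonempty_Xhat [QuasiCompact f] [QuasiSeparated f] (U : Y.Opens) (hU : IsAffineOpen U)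
    (hy : y ∈ U) (hiso : IsIso (f.app U)) : Nonempty (Xhat f y) := by
  haveI := isIso_appTop_snd f y U hU hy hiso
  by_contra hne
  rw [not_nonempty_iff] at hne
  haveI : Subsingleton Γ(Xhat f y, ⊤) := by
    have h : (⊤ : (Xhat f y).Opens) = ⊥ := by
      ext p
      exact (hne.false p).elim
    rw [h]
    infer_instance
  have h1 := (ConcreteCategory.bijective_of_isIso (pullback.snd f (hhat y)).appTop).1
  haveI : Subsingleton Γ(Spec (CommRingCat.of (Ahat y)), ⊤) := h1.subsingleton
  haveI : Subsingleton (Ahat y) :=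
    (Scheme.ΓSpecIso (CommRingCat.of (Ahat y))).commRingCatIsoToRingEquiv.symm.injective.subsingleton
  exact false_of_nontrivial_of_subsingleton (Ahat y)

lemma nonempty_closedFibre [IsProper f] (U : Y.Opens) (hU : IsAffineOpen U)
    (hy : y ∈ U) (hiso : IsIso (f.app U)) : (closedFibre (Ahat y) (Xhat f y)).Nonempty := by
  obtain ⟨p⟩ := nonempty_Xhat f y U hU hy hiso
  have hcl : IsClosedMap (pullback.snd f (hhat y)).base :=
    (pullback.snd f (hhat y)).isClosedMap
  have h1 : IsClosed ((pullback.snd f (hhat y)).base '' closure {p}) := hcl _ isClosed_closure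
  have h2 : (pullback.snd f (hhat y)).base p ∈ (pullback.snd f (hhat y)).base '' closure {p} :=
    ⟨p, subset_closure rfl, rfl⟩
  have h3 := (IsLocalRing.specializes_closedPoint ((pullback.snd f (hhat y)).base p)).mem_closed
    h1 h2
  obtain ⟨q, -, hq⟩ := h3
  exact ⟨q, hq⟩

/-- **Zariski's connectedness theorem**: if `O_Y(U) → O_X(f⁻¹U)` is bijective for some affine
open neighbourhood `U` of `y`, the fibre `f⁻¹(y)` is connected. -/
theorem isConnected_preimage_singleton (hF : PS.FormalBijHyp.{u}) [IsProper f] (U : Y.Opens)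
    (hU : IsAffineOpen U) (hy : y ∈ U) (hiso : IsIso (f.app U)) :
    _root_.IsConnected (f.base ⁻¹' {y}) := by
  have hpre := isPreconnected_closedFibre hF (gl_surjective f y U hU hy hiso)
  have himg : f.base ⁻¹' {y} = (pullback.fst f (hhat y)).base '' closedFibre (Ahat y) (Xhat f y) := by
    ext x
    constructor
    · intro hx
      have hx' : f.base x = (hhat y).base (IsLocalRing.closedPoint (Ahat y)) := by
        rw [hhat_closedPoint]
        exact hx
      obtain ⟨z, hz1, hz2⟩ := Scheme.Pullback.exists_preimage_pullback x _ hx'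
      exact ⟨z, hz2, hz1⟩
    · rintro ⟨z, hz, rfl⟩
      change f.base ((pullback.fst f (hhat y)).base z) = y
      have h1 : f.base ((pullback.fst f (hhat y)).base z) =
          (hhat y).base ((pullback.snd f (hhat y)).base z) := by
        rw [← Scheme.Hom.comp_apply, ← Scheme.Hom.comp_apply, pullback.condition]
      rw [h1]
      have h2 : (pullback.snd f (hhat y)).base z = IsLocalRing.closedPoint (Ahat y) := hz
      rw [h2, hhat_closedPoint]
  rw [himg]
  exact ⟨(nonempty_closedFibre f y U hU hy hiso).image _,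
    hpre.image _ (pullback.fst f (hhat y)).continuous.continuousOn⟩

end setup

end Groth.Agent.LD.Stein
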