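import Groth.Agent.Lib.Lead.Stein.ZariskiGeom
import Groth.Agent.Lib.Lead.Stein.FiniteNorm
import Groth.Agent.Lib.Helper5.AG.NormalAffine
import Mathlib.AlgebraicGeometry.FunctionField

/-! # Proper birational morphisms onto normal schemes have connected fibres. -/

set_option autoImplicit false
universe u
open CategoryTheory Limits Opposite TopologicalSpace AlgebraicGeometry

namespace Groth.Agent.LD.Stein

open Groth.Agent.LD

variable {X Y : Scheme.{u}} [IsIntegral X] [IsIntegral Y] (f : X ⟶ Y)

/-- if the function field of `Y` is "algebraically closed" in that of `X` in the weak sense that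
elements of `Γ(X, f⁻¹U)` have images in `K(X)` coming from `K(Y)`, then `O_Y(U) → O_X(f⁻¹U)` is
bijective for `U` affine with integrally closed coordinate ring. -/
theorem isIso_app_of_range_le (hfin : RS.FinCoh.{u}) [IsProper f] [IsLocallyNoetherian Y]
    (hgen : f.base (genericPoint X) = genericPoint Y)
    (U : Y.Opens) (hU : IsAffineOpen U) [Nonempty U] (hic : IsIntegrallyClosed Γ(Y, U))
    (hX : genericPoint X ∈ f ⁻¹ᵁ U)
    (hr : ∀ b : Γ(X, f ⁻¹ᵁ U), ∃ β : Y.functionField,
      (f.stalkMap (genericPoint X)).hom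
        ((Y.presheaf.stalkCongr (Inseparable.of_eq hgen)).inv.hom β) =
        X.presheaf.germ (f ⁻¹ᵁ U) (genericPoint X) hX b) :
    IsIso (f.app U) := by
  set e := Y.presheaf.stalkCongr (Inseparable.of_eq hgen) with he
  let σ : Y.functionField ⟶ X.functionField := e.inv ≫ f.stalkMap (genericPoint X)
  have hcomp : Y.germToFunctionField U ≫ σ =
      f.app U ≫ X.presheaf.germ (f ⁻¹ᵁ U) (genericPoint X) hX := by
    change Y.presheaf.germ U _ _ ≫
      Y.presheaf.stalkSpecializes (Inseparable.of_eq hgen).le ≫ _ = _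
    rw [← Category.assoc, TopCat.Presheaf.germ_stalkSpecializes, Scheme.Hom.germ_stalkMap]
  have hσinj : Function.Injective σ.hom := (σ.hom : Y.functionField →+* X.functionField).injective
  haveI : Nonempty (f ⁻¹ᵁ U) := ⟨⟨_, hX⟩⟩
  have hginj : Function.Injective (X.presheaf.germ (f ⁻¹ᵁ U) (genericPoint X) hX).hom :=
    germ_injective_of_isIntegral X _ hX
  have hinj : Function.Injective (f.app U).hom := by
    intro a a' haa
    apply Y.germToFunctionField_injective U
    apply hσinj
    have h1 := congr($(hcomp).hom a)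
    have h2 := congr($(hcomp).hom a')
    simp only [CommRingCat.hom_comp, RingHom.coe_comp, Function.comp_apply] at h1 h2
    rw [h1, h2, haa]
  letI := (f.app U).hom.toAlgebra
  haveI : Module.Finite Γ(Y, U) Γ(X, f ⁻¹ᵁ U) := finite_app_of_isProper f hfin U hU
  haveI := functionField_isFractionRing_of_isAffineOpen Y U hU
  have hsurj : Function.Surjective (f.app U).hom := by
    intro b
    obtain ⟨β, hβ⟩ := hr b
    have hbint : IsIntegral Γ(Y, U) b := Algebra.IsIntegral.isIntegral b
    have hβint : IsIntegral Γ(Y, U) β := by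
      obtain ⟨p, hp, hpb⟩ := hbint
      refine ⟨p, hp, ?_⟩
      apply hσinj
      rw [map_zero]
      have h3 : σ.hom (Polynomial.eval₂ (algebraMap Γ(Y, U) Y.functionField) β p) =
          Polynomial.eval₂ ((σ.hom).comp (algebraMap Γ(Y, U) Y.functionField)) (σ.hom β) p :=
        Polynomial.hom_eval₂ p _ σ.hom β
      rw [h3]
      have h4 : (σ.hom).comp (algebraMap Γ(Y, U) Y.functionField) =
          (X.presheaf.germ (f ⁻¹ᵁ U) (genericPoint X) hX).hom.comp
            (algebraMap Γ(Y, U) Γ(X, f ⁻¹ᵁ U)) := by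
        have := congr($(hcomp).hom)
        exact this
      have h5 : σ.hom β = (X.presheaf.germ (f ⁻¹ᵁ U) (genericPoint X) hX).hom b := hβ
      rw [h4, h5, ← Polynomial.hom_eval₂, hpb, map_zero]
    obtain ⟨a, ha⟩ := (IsIntegrallyClosed.isIntegral_iff (R := Γ(Y, U))
      (K := Y.functionField)).1 hβint
    refine ⟨a, ?_⟩
    apply hginj
    have h1 := congr($(hcomp).hom a)
    simp only [CommRingCat.hom_comp, RingHom.coe_comp, Function.comp_apply] at h1
    rw [← h1]
    change σ.hom (algebraMap Γ(Y, U) Y.functionField a) = _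
    rw [ha]
    exact hβ
  exact (ConcreteCategory.isIso_iff_bijective (f.app U)).2 ⟨hinj, hsurj⟩

/-- **Zariski's main theorem** (connectedness form): a proper birational morphism onto a normal
locally Noetherian integral scheme has connected fibres. -/
theorem connectedSpace_fiber_of_birational (hfin : RS.FinCoh.{u}) (hF : PS.FormalBijHyp.{u})
    [IsProper f] [IsLocallyNoetherian Y] (hY : Pi1.IsNormalScheme Y)
    (hgen : f.base (genericPoint X) = genericPoint Y)
    (hbir : IsIso (f.stalkMap (genericPoint X))) (y : Y) : ConnectedSpace (f.fiber y) := by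
  obtain ⟨_, ⟨U, hU, rfl⟩, hyU, -⟩ :=
    Y.isBasis_affineOpens.exists_subset_of_mem_open (Set.mem_univ y) isOpen_univ
  haveI : Nonempty U := ⟨⟨y, hyU⟩⟩
  have hic := (Groth.Agent.H5.AG.isNormalScheme_iff_affine Y).1 hY U hU
  have hX : genericPoint X ∈ f ⁻¹ᵁ U := by
    change f.base (genericPoint X) ∈ U
    rw [hgen]
    exact ((genericPoint_spec Y).mem_open_set_iff U.isOpen).mpr ⟨y, trivial, hyU⟩
  refine connectedSpace_fiber f hF y U hU hyU
    (isIso_app_of_range_le f hfin hgen U hU hic hX fun b => ?_)
  refine ⟨(Y.presheaf.stalkCongr (Inseparable.of_eq hgen)).hom.hom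
    ((inv (f.stalkMap (genericPoint X))).hom
      (X.presheaf.germ (f ⁻¹ᵁ U) (genericPoint X) hX b)), ?_⟩
  have h1 : (Y.presheaf.stalkCongr (Inseparable.of_eq hgen)).inv.hom
      ((Y.presheaf.stalkCongr (Inseparable.of_eq hgen)).hom.hom
        ((inv (f.stalkMap (genericPoint X))).hom
          (X.presheaf.germ (f ⁻¹ᵁ U) (genericPoint X) hX b))) =
      (inv (f.stalkMap (genericPoint X))).hom
          (X.presheaf.germ (f ⁻¹ᵁ U) (genericPoint X) hX b) := by
    have := (Y.presheaf.stalkCongr (Inseparable.of_eq hgen)).hom_inv_id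
    exact congr($(this).hom _)
  rw [h1]
  have h2 := IsIso.inv_hom_id (f.stalkMap (genericPoint X))
  exact congr($(h2).hom _)

end Groth.Agent.LD.Stein
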