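import Groth.Agent.Lib.Lead.Stein.ZariskiGeom

/-! # Connectedness of the total space from connectedness of base and fibres. -/

set_option autoImplicit false
universe u
open CategoryTheory Limits Opposite TopologicalSpace AlgebraicGeometry

namespace Groth.Agent.LD.Stein

open Groth.Agent.LD

/-- a closed continuous map with connected (nonempty) fibres onto a connected space has connected
source. -/
theorem connectedSpace_of_isClosedMap {α β : Type*} [TopologicalSpace α] [TopologicalSpace β]
    [ConnectedSpace β] (φ : α → β) (hc : Continuous φ) (hcl : IsClosedMap φ)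
    (hfib : ∀ b : β, _root_.IsConnected (φ ⁻¹' {b})) : ConnectedSpace α := by
  have hsurj : Function.Surjective φ := fun b => by
    obtain ⟨a, ha⟩ := (hfib b).1
    exact ⟨a, ha⟩
  have hq : Topology.IsQuotientMap φ := hcl.isQuotientMap hc hsurj
  obtain ⟨b₀⟩ : Nonempty β := inferInstance
  obtain ⟨a₀, -⟩ := hsurj b₀
  haveI : Nonempty α := ⟨a₀⟩
  refine connectedSpace_iff_connectedComponent.2 ⟨a₀, ?_⟩
  rw [← hq.preimage_connectedComponent hfib a₀, PreconnectedSpace.connectedComponent_eq_univ,
    Set.preimage_univ]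

variable {X Y Y' : Scheme.{u}} (f : X ⟶ Y)

/-- S5670. -/
theorem connectedSpace_pullback (hF : PS.FormalBijHyp.{u}) [IsProper f] [IsLocallyNoetherian Y]
    (hf : ∀ U : Y.Opens, IsIso (f.app U)) (g : Y' ⟶ Y) [Flat g] [LocallyOfFiniteType g]
    [ConnectedSpace Y'] : ConnectedSpace ↥(pullback f g) := by
  haveI : IsLocallyNoetherian Y' := LocallyOfFiniteType.isLocallyNoetherian g
  apply connectedSpace_of_isClosedMap (pullback.snd f g).base (pullback.snd f g).continuous
    (pullback.snd f g).isClosedMap
  intro t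
  obtain ⟨_, ⟨U, hU, rfl⟩, hyU, -⟩ :=
    Y.isBasis_affineOpens.exists_subset_of_mem_open (Set.mem_univ (g.base t)) isOpen_univ
  obtain ⟨_, ⟨V, hV, rfl⟩, htV, hVU⟩ :=
    Y'.isBasis_affineOpens.exists_subset_of_mem_open (show t ∈ (g ⁻¹ᵁ U : Set Y') from hyU)
      (g ⁻¹ᵁ U).2
  exact isConnected_preimage_singleton (pullback.snd f g) t hF V hV htV
    (isIso_app_snd_of_flat f g U hU V hV hVU (hf U))

end Groth.Agent.LD.Stein
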