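import Groth.Agent.Lib.Lead.Stein.UnibranchGeom
import Groth.Agent.Lib.Lead.QC.BlowUpProps
import Groth.Agent.Lib.Helper9.Misc.BLA12

/-! # The closed fibre of a blow-up of a unibranch local domain is (pre)connected (EGA III 4.3.?) -/

set_option autoImplicit false
universe u
open CategoryTheory Limits Opposite TopologicalSpace AlgebraicGeometry

namespace Groth.Agent.LD.Stein

open Groth.Agent.LD

/-- connectedness of a fibre when the integral closure of the local ring in `K(X)` is local. -/
theorem connectedSpace_fiber_of_isLocalRing {X Y : Scheme.{u}} [IsIntegral X] (f : X ⟶ Y)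
    (hfin : RS.FinCoh.{u}) (hF : PS.FormalBijHyp.{u})
    [IsProper f] [IsLocallyNoetherian Y] (hsurj : Function.Surjective f.base)
    (y : Y) (h : f.base (genericPoint X) ⤳ y)
    (hloc : letI := (CohIII.stalkToFunctionField f y h).toAlgebra
      IsLocalRing (integralClosure (Y.presheaf.stalk y) X.functionField)) :
    ConnectedSpace ↥(f.fiber y) := by
  have hle := mk_connectedComponents_fiber_le hfin hF f y h
  letI : Algebra (Y.presheaf.stalk y) X.functionField :=
    (CohIII.stalkToFunctionField f y h).toAlgebra
  haveI := hloc
  haveI : Subsingleton (MaximalSpectrum (integralClosure (Y.presheaf.stalk y) X.functionField)) := by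
    constructor
    intro m₁ m₂
    apply MaximalSpectrum.ext
    rw [IsLocalRing.eq_maximalIdeal m₁.isMaximal, IsLocalRing.eq_maximalIdeal m₂.isMaximal]
  have hle1 : Cardinal.mk (_root_.ConnectedComponents (f.fiber y)) ≤ 1 :=
    hle.trans (Cardinal.le_one_iff_subsingleton.2 this)
  haveI := Cardinal.le_one_iff_subsingleton.1 hle1
  obtain ⟨x, hx⟩ := hsurj y
  let x₀ : f.fiber y := (f.fiberHomeo y).symm ⟨x, hx⟩
  rw [connectedSpace_iff_connectedComponent]
  refine ⟨x₀, Set.eq_univ_of_forall fun x' => ?_⟩
  have h5 : (x' : _root_.ConnectedComponents (f.fiber y)) = x₀ := Subsingleton.elim _ _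
  rw [ConnectedComponents.coe_eq_coe] at h5
  rw [← h5]
  exact mem_connectedComponent

/-- integral closures over isomorphic base rings coincide. -/
lemma integralClosure_toSubring_eq {A O K : Type u} [CommRing A] [CommRing O] [Field K]
    [Algebra A O] [Algebra O K] [Algebra A K] [IsScalarTower A O K]
    (hs : Function.Surjective (algebraMap A O)) :
    (integralClosure A K).toSubring = (integralClosure O K).toSubring := by
  haveI : Algebra.IsIntegral A O := Algebra.isIntegral_of_surjective hs
  ext z
  exact ⟨fun hz => IsIntegral.tower_top hz, fun hz => isIntegral_trans _ hz⟩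

/-- surjectivity of the map on function fields from bijectivity on residue fields. -/
lemma stalkToFunctionField_surjective {X Y : Scheme.{u}} [IsIntegral X] [IsIntegral Y]
    (b : X ⟶ Y) (hgen : b.base (genericPoint X) = genericPoint Y)
    (hdom : b.base (genericPoint X) ⤳ genericPoint Y)
    (hbij : Function.Bijective (b.residueFieldMap (genericPoint X)).hom) :
    Function.Surjective (CohIII.stalkToFunctionField b (genericPoint Y) hdom) := by
  intro z
  obtain ⟨r, hr⟩ := hbij.2 ((X.residue (genericPoint X)).hom z)
  obtain ⟨w, rfl⟩ := Scheme.residue_surjective Y (b.base (genericPoint X)) r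
  have h1 := congr($(Scheme.residue_residueFieldMap b (genericPoint X)).hom w)
  simp only [CommRingCat.hom_comp, RingHom.coe_comp, Function.comp_apply] at h1
  have hinj : Function.Injective (X.residue (genericPoint X)).hom := by
    rw [injective_iff_map_eq_zero]
    intro a ha
    have h2 : a ∈ IsLocalRing.maximalIdeal (X.presheaf.stalk (genericPoint X)) := by
      rw [← IsLocalRing.ker_residue]
      exact ha
    rw [show IsLocalRing.maximalIdeal (X.presheaf.stalk (genericPoint X)) = ⊥ from
      IsLocalRing.maximalIdeal_eq_bot (R := X.functionField)] at h2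
    exact h2
  have h3 : (b.stalkMap (genericPoint X)).hom w = z := hinj (h1.symm.trans hr)
  -- `w` comes from the stalk at the generic point of `Y`
  have hdom' : genericPoint Y ⤳ b.base (genericPoint X) := hgen ▸ specializes_rfl
  have h4 : Y.presheaf.stalkSpecializes hdom' ≫ Y.presheaf.stalkSpecializes hdom =
      𝟙 _ := by
    rw [TopCat.Presheaf.stalkSpecializes_comp, TopCat.Presheaf.stalkSpecializes_refl]
  refine ⟨(Y.presheaf.stalkSpecializes hdom').hom w, ?_⟩
  change (b.stalkMap (genericPoint X)).hom ((Y.presheaf.stalkSpecializes hdom).hom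
    ((Y.presheaf.stalkSpecializes hdom').hom w)) = z
  have h5 := congr($(h4).hom w)
  simp only [CommRingCat.hom_comp, RingHom.coe_comp, Function.comp_apply, CommRingCat.hom_id,
    RingHom.id_apply] at h5
  rw [h5, h3]

end Groth.Agent.LD.Stein

namespace Groth.Agent.LD.Stein

open Groth.Agent.LD

/-- a blow-up in the zero ideal is empty. -/
lemma isEmpty_of_isBlowUp_bot {X X' : Scheme.{u}} (b : X' ⟶ X)
    (hb : BlowUp.IsBlowUp b (⊥ : X.IdealSheafData)) : IsEmpty X' := by
  constructor
  intro x
  have h1 := hb.1
  rw [Scheme.IdealSheafData.comap_bot] at h1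
  obtain ⟨U, hxU, f, hf, hUf⟩ := h1 x
  rw [Scheme.IdealSheafData.ideal_bot] at hUf
  have hf0 : f = 0 := Ideal.span_singleton_eq_bot.1 hUf.symm
  haveI : Nontrivial Γ(X', U.1) := (X'.presheaf.germ U.1 x hxU).hom.domain_nontrivial
  rw [hf0] at hf
  exact zero_notMem_nonZeroDivisors hf

/-- EGA III 4.3.?: closed fibre of a blow-up of a unibranch Noetherian local domain. -/
theorem preconnectedSpace_fiber_blowUp (hfin : RS.FinCoh.{u}) (hF : PS.FormalBijHyp.{u})
    (A : Type u) [CommRing A] [IsDomain A] [IsNoetherianRing A] [IsLocalRing A]
    (hA : CAlg2.IsUnibranch A) (𝔞 : Ideal A) {X : Scheme.{u}}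
    (b : X ⟶ Spec (CommRingCat.of A))
    (hb : BlowUp.IsBlowUp b
      (Scheme.IdealSheafData.ofIdealTop (𝔞.map (Scheme.ΓSpecIso (CommRingCat.of A)).inv.hom))) :
    PreconnectedSpace ↥(b.fiber (IsLocalRing.closedPoint A)) := by
  by_cases h0 : 𝔞 = ⊥
  · subst h0
    have hbot : Scheme.IdealSheafData.ofIdealTop
        ((⊥ : Ideal A).map (Scheme.ΓSpecIso (CommRingCat.of A)).inv.hom) = ⊥ := by
      apply Scheme.IdealSheafData.ext_of_isAffine
      simp
    rw [hbot] at hb
    haveI := isEmpty_of_isBlowUp_bot b hb
    haveI : IsEmpty ↥(b.fiber (IsLocalRing.closedPoint A)) :=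
      Function.isEmpty (b.fiberι (IsLocalRing.closedPoint A)).base
    exact ⟨by rw [Set.univ_eq_empty_iff.2 inferInstance]; exact isPreconnected_empty⟩
  · set 𝓘 := Scheme.IdealSheafData.ofIdealTop
      (𝔞.map (Scheme.ΓSpecIso (CommRingCat.of A)).inv.hom) with h𝓘
    have hI : 𝓘 ≠ ⊥ := by
      intro hI
      have h1 := congrArg (fun J : (Spec (CommRingCat.of A)).IdealSheafData =>
        J.ideal ⟨⊤, isAffineOpen_top _⟩) hI
      simp only [h𝓘, Scheme.IdealSheafData.ideal_bot] at h1
      have h2 : 𝔞.map (Scheme.ΓSpecIso (CommRingCat.of A)).inv.hom = ⊥ := by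
        simpa using h1
      apply h0
      rw [Ideal.map_eq_bot_iff_of_injective] at h2
      · exact h2
      · exact (ConcreteCategory.bijective_of_isIso (Scheme.ΓSpecIso (CommRingCat.of A)).inv).1
    obtain ⟨hint, hgen, hbij⟩ := QC.IsBlowUp.isIntegral_and_birational hI hb
    haveI := hint
    have hft : BlowUp.IsFiniteTypeIdeal 𝓘 := fun U => by
      haveI : IsNoetherianRing Γ(Spec (CommRingCat.of A), U.1) :=
        IsLocallyNoetherian.component_noetherian U
      exact (isNoetherianRing_iff_ideal_fg _).1 inferInstance _
    haveI : IsProper b := Groth.Agent.H9.BLA.IsBlowUp.isProper hb hft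
    have hdom : b.base (genericPoint X) ⤳ genericPoint (Spec (CommRingCat.of A)) :=
      hgen ▸ specializes_rfl
    have h : b.base (genericPoint X) ⤳ (IsLocalRing.closedPoint A : Spec (CommRingCat.of A)) :=
      hdom.trans ((genericPoint_spec _).specializes (Set.mem_univ _))
    haveI := connectedSpace_fiber_of_isLocalRing b hfin hF (surjective_of_dominant b hdom)
      (IsLocalRing.closedPoint A) h (by
      letI algOK : Algebra ((Spec (CommRingCat.of A)).presheaf.stalk (IsLocalRing.closedPoint A))
          X.functionField := (CohIII.stalkToFunctionField b (IsLocalRing.closedPoint A) h).toAlgebra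
      let e := stalkClosedPointIso (CommRingCat.of A)
      letI algAO : Algebra A ((Spec (CommRingCat.of A)).presheaf.stalk (IsLocalRing.closedPoint A)) :=
        e.inv.hom.toAlgebra
      letI algAK : Algebra A X.functionField :=
        ((algebraMap ((Spec (CommRingCat.of A)).presheaf.stalk (IsLocalRing.closedPoint A))
          X.functionField).comp (algebraMap A _)).toAlgebra
      haveI : IsScalarTower A ((Spec (CommRingCat.of A)).presheaf.stalk (IsLocalRing.closedPoint A))
          X.functionField := IsScalarTower.of_algebraMap_eq' rfl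
      have hs : Function.Bijective (algebraMap A
          ((Spec (CommRingCat.of A)).presheaf.stalk (IsLocalRing.closedPoint A))) :=
        ConcreteCategory.bijective_of_isIso e.inv
      have hψinj := stalkToFunctionField_injective b hdom (IsLocalRing.closedPoint A) h
      have hcomp := stalkToFunctionField_comp_algebraMap b hdom (IsLocalRing.closedPoint A) h
      have hψsurj := stalkToFunctionField_surjective b hgen hdom hbij
      have hlocA : IsLocalRing (integralClosure A X.functionField) := by
        have hinjA : Function.Injective (algebraMap A X.functionField) := by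
          change Function.Injective
            ((CohIII.stalkToFunctionField b (IsLocalRing.closedPoint A) h) ∘ (algebraMap A _))
          exact hψinj.comp hs.1
        refine Unibranch.isLocalRing_integralClosure (O := A) (K := X.functionField) hinjA hA ?_
        intro z _
        obtain ⟨w, hw⟩ := hψsurj z
        obtain ⟨a₀, b₀, hb₀, rfl⟩ := IsFractionRing.div_surjective
          ((Spec (CommRingCat.of A)).presheaf.stalk (IsLocalRing.closedPoint A)) w
        obtain ⟨a, rfl⟩ := hs.2 a₀
        obtain ⟨b', rfl⟩ := hs.2 b₀
        refine ⟨0, a, b', fun hb0 => nonZeroDivisors.ne_zero hb₀ (by rw [hb0, map_zero]), ?_⟩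
        rw [pow_zero, pow_one, ← hw]
        have h3 : ∀ c : A, algebraMap A X.functionField c =
            (CohIII.stalkToFunctionField b (genericPoint _) hdom)
              (algebraMap ((Spec (CommRingCat.of A)).presheaf.stalk (IsLocalRing.closedPoint A)) (Spec (CommRingCat.of A)).functionField
                (algebraMap A ((Spec (CommRingCat.of A)).presheaf.stalk (IsLocalRing.closedPoint A)) c)) :=
          fun c => (congr($hcomp (algebraMap A ((Spec (CommRingCat.of A)).presheaf.stalk (IsLocalRing.closedPoint A)) c))).symm
        rw [h3, h3, ← map_mul]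
        congr 1
        have hb0 : algebraMap ((Spec (CommRingCat.of A)).presheaf.stalk (IsLocalRing.closedPoint A)) (Spec (CommRingCat.of A)).functionField
            (algebraMap A ((Spec (CommRingCat.of A)).presheaf.stalk (IsLocalRing.closedPoint A)) b') ≠ 0 := by
          intro h0'
          exact nonZeroDivisors.ne_zero hb₀
            (IsFractionRing.injective ((Spec (CommRingCat.of A)).presheaf.stalk (IsLocalRing.closedPoint A)) (Spec (CommRingCat.of A)).functionField
              (h0'.trans (map_zero _).symm))
        rw [div_mul_cancel₀ _ hb0]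
      have h1 : IsLocalRing ↥(integralClosure A X.functionField).toSubring := hlocA
      rw [integralClosure_toSubring_eq hs.2] at h1
      exact h1)
    infer_instance

end Groth.Agent.LD.Stein
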