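import Groth.Agent.Lib.Lead.Stein.Nonvanish
import Groth.Agent.Lib.Lead.PS.Formal
import Groth.Agent.Lib.Lead.CohLES.H0
import Groth.Agent.Lib.Lead.PF.LocalVanish

/-! # Zariski's connectedness theorem over a complete local base. -/

set_option autoImplicit false
universe u
open CategoryTheory Limits Opposite TopologicalSpace AlgebraicGeometry

namespace Groth.Agent.LD.Stein

open Groth.Agent.LD

variable (A : Type u) [CommRing A] [IsLocalRing A]
  (X : Scheme.{u}) [X.Over (Spec (CommRingCat.of A))]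

local notation "𝔪" => IsLocalRing.maximalIdeal A
local notation "𝒪" => QC.unitMod X

/-- the closed fibre as a subset of `X`. -/
def closedFibre : Set X :=
  (X ↘ Spec (CommRingCat.of A)).base ⁻¹' {IsLocalRing.closedPoint A}

lemma isClosed_closedFibre : IsClosed (closedFibre A X) :=
  (IsLocalRing.isClosed_singleton_closedPoint A).preimage
    (X ↘ Spec (CommRingCat.of A)).continuous

variable {A X}

lemma le_of_mem_closedFibre {z : X} (hz : z ∈ closedFibre A X) :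
    𝔪 ≤ ((X ↘ Spec (CommRingCat.of A)).base z).asIdeal := by
  have h : (X ↘ Spec (CommRingCat.of A)).base z = IsLocalRing.closedPoint A := hz
  rw [h]
  exact le_rfl

lemma exists_of_notMem_closedFibre {w : X} (hw : w ∉ closedFibre A X) (n : ℕ) :
    ∃ a ∈ 𝔪 ^ (n + 1), a ∉ ((X ↘ Spec (CommRingCat.of A)).base w).asIdeal := by
  set p := (X ↘ Spec (CommRingCat.of A)).base w with hp
  have hne : p ≠ IsLocalRing.closedPoint A := hw
  have hle : p.asIdeal ≤ 𝔪 := IsLocalRing.le_maximalIdeal p.2.ne_top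
  have hlt : ¬ 𝔪 ≤ p.asIdeal := by
    intro h
    apply hne
    exact PrimeSpectrum.ext (le_antisymm hle h)
  obtain ⟨b, hb, hbp⟩ := Set.not_subset.1 hlt
  refine ⟨b ^ (n + 1), Ideal.pow_mem_pow hb _, fun h => hbp (p.2.mem_of_pow_mem _ h)⟩

variable (A X) in
/-- a decomposition of the closed fibre into two disjoint closed subsets. -/
structure Decomp where
  Z₁ : Set X
  Z₂ : Set X
  closed₁ : IsClosed Z₁
  closed₂ : IsClosed Z₂
  union : Z₁ ∪ Z₂ = closedFibre A X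
  disj : Z₁ ∩ Z₂ = ∅

namespace Decomp

variable (d : Decomp A X)

/-- the associated open cover. -/
def cover : Cover2 X where
  U₁ := ⟨d.Z₂ᶜ, d.closed₂.isOpen_compl⟩
  U₂ := ⟨d.Z₁ᶜ, d.closed₁.isOpen_compl⟩
  cov := by
    intro x _
    by_cases hx : x ∈ d.Z₂
    · right
      intro hx1
      have : x ∈ d.Z₁ ∩ d.Z₂ := ⟨hx1, hx⟩
      rw [d.disj] at this
      exact this
    · left
      exact hx

lemma notMem_of_mem_inf {w : X} (hw : w ∈ d.cover.U₁ ⊓ d.cover.U₂) : w ∉ closedFibre A X := by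
  intro h
  rw [← d.union] at h
  rcases h with h | h
  · exact hw.2 h
  · exact hw.1 h

lemma mem_U₁ {z : X} (hz : z ∈ d.Z₁) : z ∈ d.cover.U₁ := by
  intro hz2
  have : z ∈ d.Z₁ ∩ d.Z₂ := ⟨hz, hz2⟩
  rw [d.disj] at this
  exact this

lemma mem_U₂ {z : X} (hz : z ∈ d.Z₂) : z ∈ d.cover.U₂ := by
  intro hz1
  have : z ∈ d.Z₁ ∩ d.Z₂ := ⟨hz1, hz⟩
  rw [d.disj] at this
  exact this

/-- the modules `O_X / 𝔪^(n+1) O_X`. -/
noncomputable abbrev M (_ : Decomp A X) (n : ℕ) : X.Modules := Formal.modPow 𝔪 (n + 1) 𝒪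

lemma subsingleton_M (n : ℕ) : Subsingleton Γ(d.M n, d.cover.U₁ ⊓ d.cover.U₂) := by
  apply subsingleton_of_killedBy (𝔪 ^ (n + 1)) (d.M n)
  · intro a ha
    exact FF.smulMod_modPow_eq_zero 𝔪 𝒪 (n + 1) a ha
  · intro w hw
    exact exists_of_notMem_closedFibre (d.notMem_of_mem_inf hw) n

/-- the image of `1` in `Γ(X, O_X/𝔪^(n+1))`. -/
noncomputable def one (n : ℕ) : Γ(d.M n, ⊤) :=
  (Formal.modPowπ 𝔪 (n + 1) 𝒪).app ⊤ (show Γ(𝒪, ⊤) from (1 : Γ(X, ⊤)))

/-- the idempotent: `1` on `Z₁`, `0` on `Z₂`. -/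
noncomputable def e (n : ℕ) : Γ(d.M n, ⊤) :=
  (exists_isCut d.cover (d.M n) (d.subsingleton_M n) (d.one n)).choose

lemma isCut_e (n : ℕ) : IsCut d.cover (d.M n) (d.one n) (d.e n) :=
  (exists_isCut d.cover (d.M n) (d.subsingleton_M n) (d.one n)).choose_spec

lemma trans_one (n : ℕ) :
    (Formal.modPowTrans 𝔪 (n + 1) 𝒪).app ⊤ (d.one (n + 1)) = d.one n := by
  unfold one
  have h := Formal.modPowπ_trans 𝔪 (n + 1) 𝒪
  conv_rhs => rw [← h]
  rfl

lemma trans_e (n : ℕ) :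
    (Formal.modPowTrans 𝔪 (n + 1) 𝒪).app ⊤ (d.e (n + 1)) = d.e n := by
  have h1 := (d.isCut_e (n + 1)).map d.cover (Formal.modPowTrans 𝔪 (n + 1) 𝒪)
  rw [d.trans_one] at h1
  exact h1.unique d.cover (d.isCut_e n)

/-- the compatible family in cohomology. -/
noncomputable def ε (n : ℕ) : Formal.HHmodPow 𝔪 𝒪 0 n := (CL.HH0Equiv (d.M n)).symm (d.e n)

lemma trans_ε (n : ℕ) : Formal.HHmodPowTrans 𝔪 𝒪 0 n (d.ε (n + 1)) = d.ε n := by
  apply (CL.HH0Equiv (d.M n)).injective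
  have h := CL.HH0Equiv_map (Formal.modPowTrans 𝔪 (n + 1) 𝒪) (d.ε (n + 1))
  refine h.trans ?_
  unfold ε
  rw [AddEquiv.apply_symm_apply, AddEquiv.apply_symm_apply, d.trans_e]

/-- the element of the inverse limit. -/
noncomputable def E : Formal.HHlim 𝔪 𝒪 0 := ⟨d.ε, d.trans_ε⟩

variable [IsNoetherianRing A] [IsAdicComplete (IsLocalRing.maximalIdeal A) A] [IsProper (X ↘ Spec (CommRingCat.of A))]

/-- a global function whose image in `O/𝔪O` is the idempotent. -/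
lemma exists_lift (hF : PS.FormalBijHyp.{u}) :
    ∃ x : Γ(X, ⊤), (Formal.modPowπ 𝔪 1 𝒪).app ⊤ (show Γ(𝒪, ⊤) from x) = d.e 0 := by
  obtain ⟨ξ, hξ⟩ := (hF A 𝔪 X 𝒪 (PF.isCoh_unitMod X) 0).2 d.E
  have h0 : Formal.toHHmodPow 𝔪 𝒪 0 0 ξ = d.ε 0 := congr($(hξ).1 0)
  refine ⟨CL.HH0Equiv 𝒪 ξ, ?_⟩
  have h := CL.HH0Equiv_map (Formal.modPowπ 𝔪 (0 + 1) 𝒪) ξ
  refine h.symm.trans ?_
  change CL.HH0Equiv (d.M 0) (Formal.toHHmodPow 𝔪 𝒪 0 0 ξ) = _
  rw [h0]
  exact AddEquiv.apply_symm_apply _ _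

omit [IsNoetherianRing A] [IsAdicComplete (IsLocalRing.maximalIdeal A) A]
  [IsProper (X ↘ Spec (CommRingCat.of A))] in
/-- the key step: a unit cannot die in `O/𝔪O` near a point of the closed fibre. -/
lemma false_of_unit (W : X.Opens) (z : X) (hzW : z ∈ W) (hz : z ∈ closedFibre A X) (a : A)
    (ha : IsUnit a)
    (h : (Formal.modPowπ 𝔪 1 𝒪).app W (show Γ(𝒪, W) from
      X.presheaf.map (homOfLE (le_top : W ≤ ⊤)).op (gl A X a)) = 0) : False := by
  have hu : IsUnit (X.presheaf.map (homOfLE (le_top : W ≤ ⊤)).op (gl A X a)) := by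
    have h1 : IsUnit (gl A X a) := ha.map (Coh.toGlobal (X ↘ Spec (CommRingCat.of A)))
    exact h1.map (X.presheaf.map (homOfLE (le_top : W ≤ ⊤)).op).hom
  have hn := notMem_basicOpen_of_modPowπ 𝔪 z (le_of_mem_closedFibre hz) W hzW _ h
  rw [Scheme.basicOpen_of_isUnit _ hu] at hn
  exact hn hzW

theorem false_of_nonempty (hF : PS.FormalBijHyp.{u})
    (hsurj : ∀ x : Γ(X, ⊤), ∃ a : A, gl A X a = x)
    (h₁ : d.Z₁.Nonempty) (h₂ : d.Z₂.Nonempty) : False := by
  obtain ⟨x, hx⟩ := d.exists_lift hF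
  obtain ⟨a, rfl⟩ := hsurj x
  obtain ⟨z₁, hz₁⟩ := h₁
  obtain ⟨z₂, hz₂⟩ := h₂
  have hz₁' : z₁ ∈ closedFibre A X := by rw [← d.union]; exact Or.inl hz₁
  have hz₂' : z₂ ∈ closedFibre A X := by rw [← d.union]; exact Or.inr hz₂
  rcases IsLocalRing.isUnit_or_isUnit_one_sub_self a with ha | ha
  · refine false_of_unit d.cover.U₂ z₂ (d.mem_U₂ hz₂) hz₂' a ha ?_
    have h := app_res (Formal.modPowπ 𝔪 1 𝒪) (le_top : d.cover.U₂ ≤ ⊤)
      (show Γ(𝒪, ⊤) from gl A X a)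
    refine h.trans ?_
    rw [hx]
    exact (d.isCut_e 0).2
  · refine false_of_unit d.cover.U₁ z₁ (d.mem_U₁ hz₁) hz₁' (1 - a) ha ?_
    have h := app_res (Formal.modPowπ 𝔪 1 𝒪) (le_top : d.cover.U₁ ≤ ⊤)
      (show Γ(𝒪, ⊤) from gl A X (1 - a))
    refine h.trans ?_
    have h2 : (Formal.modPowπ 𝔪 1 𝒪).app ⊤ (show Γ(𝒪, ⊤) from gl A X (1 - a)) =
        d.one 0 - d.e 0 := by
      have h3 : gl A X (1 - a) = 1 - gl A X a := by
        unfold gl
        rw [map_sub, map_one]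
        rfl
      rw [h3, ← hx]
      exact map_sub ((Formal.modPowπ 𝔪 1 𝒪).app ⊤).hom (show Γ(𝒪, ⊤) from (1 : Γ(X, ⊤)))
        (show Γ(𝒪, ⊤) from gl A X a)
    rw [h2, map_sub, (d.isCut_e 0).1, sub_self]

end Decomp

variable [IsNoetherianRing A] [IsAdicComplete (IsLocalRing.maximalIdeal A) A]
  [IsProper (X ↘ Spec (CommRingCat.of A))]

/-- **Zariski's connectedness theorem**, complete local base. -/
theorem isPreconnected_closedFibre (hF : PS.FormalBijHyp.{u})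
    (hsurj : ∀ x : Γ(X, ⊤), ∃ a : A, gl A X a = x) : _root_.IsPreconnected (closedFibre A X) := by
  rw [isPreconnected_closed_iff]
  intro t t' ht ht' hsub hn hn'
  by_contra hcon
  rw [Set.not_nonempty_iff_eq_empty] at hcon
  let d : Decomp A X :=
    { Z₁ := closedFibre A X ∩ t
      Z₂ := closedFibre A X ∩ t'
      closed₁ := (isClosed_closedFibre A X).inter ht
      closed₂ := (isClosed_closedFibre A X).inter ht'
      union := by
        rw [← Set.inter_union_distrib_left]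
        exact Set.inter_eq_left.2 hsub
      disj := by
        rw [← Set.inter_inter_distrib_left]
        exact hcon }
  exact d.false_of_nonempty hF hsurj hn hn'

end Groth.Agent.LD.Stein
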