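import Groth.Agent.Lib.Lead.Stein.Vanish
import Groth.Agent.Lib.Lead.PS.ModPow
import Groth.Agent.Lib.Lead.QC.FreeHom
import Mathlib.AlgebraicGeometry.ResidueField

/-! # Sections of `O_X / J O_X` detect points of the zero locus of `J`. -/

set_option autoImplicit false
universe u
open CategoryTheory Limits Opposite TopologicalSpace AlgebraicGeometry

namespace Groth.Agent.LD.Stein

open Groth.Agent.LD

variable {A : Type u} [CommRing A] {X : Scheme.{u}} [X.Over (Spec (CommRingCat.of A))]

/-- the canonical map `O_X → j_* O_T`. -/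
noncomputable def toPush {T : Scheme.{u}} (j : T ⟶ X) :
    QC.unitMod X ⟶ (Scheme.Modules.pushforward j).obj (QC.unitMod T) :=
  SheafOfModules.unitToPushforwardObjUnit j.toRingCatSheafHom

lemma toPush_app {T : Scheme.{u}} (j : T ⟶ X) (W : X.Opens) (u : Γ(X, W)) :
    (toPush j).app W (show Γ(QC.unitMod X, W) from u) =
      (show Γ((Scheme.Modules.pushforward j).obj (QC.unitMod T), W) from (j.app W).hom u) := rfl

variable (J : Ideal A)

lemma smulFamily_toPush {T : Scheme.{u}} (j : T ⟶ X)
    (hj : ∀ a ∈ J, j.appTop.hom (gl A X a) = 0) :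
    Formal.smulFamily J (QC.unitMod X) ≫ toPush j = 0 := by
  apply Sigma.hom_ext
  intro a
  rw [comp_zero, ← Category.assoc]
  have h1 : Sigma.ι (fun _ : J => QC.unitMod X) a ≫ Formal.smulFamily J (QC.unitMod X) =
      Formal.smulMod A (QC.unitMod X) (a : A) := by
    unfold Formal.smulFamily
    rw [Sigma.ι_desc]
  rw [h1, ← FF.comp_smulMod]
  have h2 : Formal.smulMod A ((Scheme.Modules.pushforward j).obj (QC.unitMod T)) (a : A) = 0 := by
    unfold Formal.smulMod
    rw [← PS.pushforward_map_smulModΓ]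
    have h3 : j.appTop.hom (Coh.toGlobal (X ↘ Spec (CommRingCat.of A)) (a : A)) =
        (0 : Coh.Γtop T) := hj a a.2
    rw [h3, KLin.smulModΓ_zero, Functor.map_zero]
  rw [h2, comp_zero]

/-- sections of `O_X` dying in `O_X / J O_X` die on every `T → X` on which `J` vanishes. -/
lemma app_eq_zero_of_modPowπ {T : Scheme.{u}} (j : T ⟶ X)
    (hj : ∀ a ∈ J, j.appTop.hom (gl A X a) = 0) (W : X.Opens) (u : Γ(X, W))
    (hu : (Formal.modPowπ J 1 (QC.unitMod X)).app W (show Γ(QC.unitMod X, W) from u) = 0) :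
    (j.app W).hom u = 0 := by
  have h0 : Formal.smulFamily (J ^ 1) (QC.unitMod X) ≫ toPush j = 0 := by
    rw [pow_one]
    exact smulFamily_toPush J j hj
  have h1 : Formal.modPowπ J 1 (QC.unitMod X) ≫ cokernel.desc _ (toPush j) h0 = toPush j :=
    cokernel.π_desc _ _ _
  have h2 : (toPush j).app W (show Γ(QC.unitMod X, W) from u) =
      (cokernel.desc _ (toPush j) h0).app W
        ((Formal.modPowπ J 1 (QC.unitMod X)).app W (show Γ(QC.unitMod X, W) from u)) := by
    conv_lhs => rw [← h1]
    rfl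
  rw [hu] at h2
  exact (toPush_app j W u).symm.trans (h2.trans (map_zero _))

/-- a section of `O_X` over `W` dying in `O_X / J O_X` vanishes at every point of `W` lying over
`V(J)`. -/
theorem notMem_basicOpen_of_modPowπ (z : X)
    (hz : J ≤ ((X ↘ Spec (CommRingCat.of A)).base z).asIdeal) (W : X.Opens) (hzW : z ∈ W)
    (u : Γ(X, W))
    (hu : (Formal.modPowπ J 1 (QC.unitMod X)).app W (show Γ(QC.unitMod X, W) from u) = 0) :
    z ∉ X.basicOpen u := by
  let j := X.fromSpecResidueField z
  have hj : ∀ a ∈ J, j.appTop.hom (gl A X a) = 0 := by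
    intro a ha
    have h1 : (Spec (X.residueField z)).basicOpen (j.appTop.hom (gl A X a)) = ⊥ := by
      rw [← Scheme.preimage_basicOpen_top]
      ext t
      simp only [Opens.coe_bot, Set.mem_empty_iff_false, iff_false]
      intro ht
      have h2 : j t ∈ X.basicOpen (gl A X a) := ht
      rw [Scheme.fromSpecResidueField_apply, mem_basicOpen_gl] at h2
      exact h2 (hz ha)
    exact (basicOpen_eq_bot_iff _).1 h1
  have h3 := app_eq_zero_of_modPowπ J j hj W u hu
  intro hzu
  have h4 : j ⁻¹ᵁ X.basicOpen u = ⊥ := by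
    rw [Scheme.preimage_basicOpen, h3, Scheme.basicOpen_zero]
  obtain ⟨t⟩ : Nonempty (Spec (X.residueField z)) := inferInstance
  have h5 : t ∈ j ⁻¹ᵁ X.basicOpen u := by
    change j t ∈ X.basicOpen u
    rw [Scheme.fromSpecResidueField_apply]
    exact hzu
  rw [h4] at h5
  exact h5

end Groth.Agent.LD.Stein
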