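import Mathlib
import Groth.Agent.Lib.Helper5.AG.NormalComponents
import Groth.Agent.Lib.Helper5.AG.NormalAffine
import Groth.Agent.Lib.Helper1.PushO2
import Groth.Agent.Lib.Helper5.HensCouple.H

/-!
# Normality descends along a morphism with `O_X = f_* O_X̃`
-/

universe u
set_option linter.style.haveILetI false
open CategoryTheory AlgebraicGeometry TopologicalSpace Opposite

namespace Groth.Agent.LD.Stein.NormalDescend

/-- sections over a nonempty open of a normal integral scheme form an integrally closed domain. -/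
theorem isIntegrallyClosed_sections {Y : Scheme.{u}} [IsIntegral Y] (hY : Pi1.IsNormalScheme Y)
    (W : Y.Opens) [Nonempty W] : IsIntegrallyClosed Γ(Y, W) := by
  have hgen : ∀ V : Y.Opens, Nonempty V → genericPoint Y ∈ V := fun V h =>
    ((genericPoint_spec Y).mem_open_set_iff V.isOpen).mpr (by simpa using h)
  have hη : genericPoint Y ∈ W := hgen W inferInstance
  let g : Γ(Y, W) →+* Y.functionField := (Y.presheaf.germ W (genericPoint Y) hη).hom
  have hg : Function.Injective g := germ_injective_of_isIntegral Y (genericPoint Y) hη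
  refine (isIntegrallyClosed_iff (FractionRing Γ(Y, W))).mpr fun {x} hx => ?_
  let ψ : FractionRing Γ(Y, W) →+* Y.functionField := IsFractionRing.lift hg
  have hψ : ∀ a, ψ (algebraMap _ _ a) = g a := fun a => IsFractionRing.lift_algebraMap hg a
  obtain ⟨p, hpm, hp⟩ := hx
  have hp' : Polynomial.eval₂ g (ψ x) p = 0 := by
    have h1 := congrArg ψ hp
    rw [Polynomial.hom_eval₂, map_zero] at h1
    have h2 : ψ.comp (algebraMap Γ(Y, W) (FractionRing Γ(Y, W))) = g := RingHom.ext hψ
    rw [h2] at h1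
    exact h1
  obtain ⟨t, ht⟩ := Groth.Agent.H1.PushO.exists_section_of_isIntegral' hY W hη (ψ x) (by
    intro V _ hVW hVaff
    have hηV : genericPoint Y ∈ V := hgen V inferInstance
    refine ⟨p.map (Y.presheaf.map (homOfLE hVW).op).hom, hpm.map _, ?_⟩
    rw [Polynomial.eval₂_map]
    have h3 : (algebraMap Γ(Y, V) Y.functionField).comp (Y.presheaf.map (homOfLE hVW).op).hom = g := by
      ext a
      exact TopCat.Presheaf.germ_res_apply Y.presheaf (homOfLE hVW) (genericPoint Y) hηV a
    rw [h3]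
    exact hp')
  refine ⟨t, ?_⟩
  exact ψ.injective ((hψ t).trans ht)

variable {X Xt : Scheme.{u}} (f : Xt ⟶ X)

/-- **normality descends** along `f : X̃ → X` with `O_X(V) ≅ O_X̃(f⁻¹V)` for all opens `V`, when `X` is
integral and `X̃` is normal and locally Noetherian. -/
theorem isNormalScheme_of_app_isIso [IsIntegral X] [IsLocallyNoetherian Xt]
    (hfib : ∀ V : X.Opens, IsIso (f.app V)) (hXt : Pi1.IsNormalScheme Xt) :
    Pi1.IsNormalScheme X := by
  -- the ring of global sections of `X̃` is a domain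
  have eT : Γ(X, ⊤) ≃+* Γ(Xt, f ⁻¹ᵁ ⊤) := (haveI := hfib ⊤; (asIso (f.app ⊤)).commRingCatIsoToRingEquiv)
  haveI : IsDomain Γ(Xt, f ⁻¹ᵁ ⊤) := eT.symm.toMulEquiv.isDomain _
  haveI : IsDomain Γ(Xt, ⊤) := ‹IsDomain Γ(Xt, f ⁻¹ᵁ ⊤)›
  haveI : Nonempty Xt := by
    by_contra h
    rw [not_nonempty_iff] at h
    haveI : Subsingleton Γ(Xt, ⊤) := by
      have : (⊤ : Xt.Opens) = ⊥ := by
        ext x
        exact (h.false x).elim
      rw [this]
      infer_instance
    exact (not_subsingleton Γ(Xt, ⊤)) inferInstance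
  -- components of `X̃`
  have hfin : ∀ U : Xt.Opens, IsCompact (U : Set Xt) → (irreducibleComponents ↥U).Finite := by
    intro U hU
    haveI : CompactSpace U := isCompact_iff_compactSpace.mp hU
    haveI : IsLocallyNoetherian (U : Scheme.{u}) := isLocallyNoetherian_of_isOpenImmersion U.ι
    haveI : CompactSpace (U : Scheme.{u}) := ‹CompactSpace U›
    haveI : IsNoetherian (U : Scheme.{u}) := ⟨⟩
    haveI : NoetherianSpace (U : Scheme.{u}) := inferInstance
    have h := @NoetherianSpace.finite_irreducibleComponents (U : Scheme.{u}) _ _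
    exact h
  obtain ⟨hopen, -⟩ := Groth.Agent.H5.AG.normal_components Xt hfin hXt
  -- `X̃` is irreducible
  haveI : IrreducibleSpace Xt := by
    obtain ⟨x⟩ := (inferInstance : Nonempty Xt)
    set Z := irreducibleComponent x with hZ
    have hZmem : Z ∈ irreducibleComponents Xt := irreducibleComponent_mem_irreducibleComponents x
    have hZo : IsOpen Z := hopen Z hZmem
    have hZc : IsClosed Z := isClosed_irreducibleComponent
    obtain ⟨e, he, hbe⟩ := Groth.Agent.H5.HensCouple.exists_idem_basicOpen_eq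
      (X := Xt) (U := Z) ⟨hZc, hZo⟩
    have he01 : e = 0 ∨ e = 1 := by
      have h1 : e * (e - 1) = 0 := by
        rw [mul_sub, mul_one, he.eq, sub_self]
      rcases mul_eq_zero.mp h1 with h | h
      · exact Or.inl h
      · exact Or.inr (sub_eq_zero.mp h)
    have hZuniv : Z = Set.univ := by
      rcases he01 with h | h
      · exfalso
        rw [h, Scheme.basicOpen_zero] at hbe
        have : x ∈ Z := mem_irreducibleComponent
        rw [← hbe] at this
        exact this
      · rw [← hbe, h, Scheme.basicOpen_of_isUnit _ isUnit_one]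
        rfl
    have hirr : IsIrreducible (Set.univ : Set Xt) := hZuniv ▸ isIrreducible_irreducibleComponent
    exact { toPreirreducibleSpace := ⟨hirr.isPreirreducible⟩, toNonempty := inferInstance }
  haveI : IsReduced Xt := by
    haveI : ∀ x : Xt, _root_.IsReduced (Xt.presheaf.stalk x) := fun x => by
      haveI := (hXt x).1
      infer_instance
    exact isReduced_of_isReduced_stalk Xt
  haveI : IsIntegral Xt := isIntegral_of_irreducibleSpace_of_isReduced Xt
  rw [Groth.Agent.H5.AG.isNormalScheme_iff_affine X]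
  intro V _ hV
  have eV : Γ(X, V) ≃+* Γ(Xt, f ⁻¹ᵁ V) := (haveI := hfib V; (asIso (f.app V)).commRingCatIsoToRingEquiv)
  haveI : Nonempty (f ⁻¹ᵁ V : Xt.Opens) := by
    by_contra h
    rw [not_nonempty_iff] at h
    have hbot : (f ⁻¹ᵁ V : Xt.Opens) = ⊥ := by
      ext x
      exact ⟨fun hx => (h.false ⟨x, hx⟩).elim, fun hx => hx.elim⟩
    haveI : Subsingleton Γ(Xt, f ⁻¹ᵁ V) := by
      rw [hbot]
      infer_instance
    haveI : Subsingleton Γ(X, V) := eV.injective.subsingleton
    exact (not_subsingleton Γ(X, V)) inferInstance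
  haveI := isIntegrallyClosed_sections hXt (f ⁻¹ᵁ V)
  exact IsIntegrallyClosed.of_equiv eV.symm


/-- open subschemes of normal schemes are normal. -/
lemma isNormalScheme_opens {Y : Scheme.{u}} (hY : Pi1.IsNormalScheme Y) (W : Y.Opens) :
    Pi1.IsNormalScheme (W : Scheme.{u}) := by
  intro w
  obtain ⟨h1, h2⟩ := hY w.1
  let e' : (W : Scheme.{u}).presheaf.stalk w ≃+* Y.presheaf.stalk w.1 :=
    (W.stalkIso w).commRingCatIsoToRingEquiv
  exact ⟨e'.toMulEquiv.isDomain _, IsIntegrallyClosed.of_equiv e'.symm⟩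

/-- **normality descends** along `f : X̃ → X` with `O_X(V) ≅ O_X̃(f⁻¹V)` for all opens `V`, when `X̃` is
normal and Noetherian (no integrality assumption on `X`). -/
theorem isNormalScheme_of_app_isIso' [IsNoetherian Xt]
    (hfib : ∀ V : X.Opens, IsIso (f.app V)) (hXt : Pi1.IsNormalScheme Xt) :
    Pi1.IsNormalScheme X := by
  classical
  intro y
  have hfinC : (irreducibleComponents Xt).Finite := NoetherianSpace.finite_irreducibleComponents
  have hfin : ∀ U : Xt.Opens, IsCompact (U : Set Xt) → (irreducibleComponents ↥U).Finite := by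
    intro U hU
    haveI : CompactSpace U := isCompact_iff_compactSpace.mp hU
    haveI : IsLocallyNoetherian (U : Scheme.{u}) := isLocallyNoetherian_of_isOpenImmersion U.ι
    haveI : CompactSpace (U : Scheme.{u}) := ‹CompactSpace U›
    haveI : IsNoetherian (U : Scheme.{u}) := ⟨⟩
    have h := @NoetherianSpace.finite_irreducibleComponents (U : Scheme.{u}) _ _
    exact h
  obtain ⟨hopen, -⟩ := Groth.Agent.H5.AG.normal_components Xt hfin hXt
  have hidem : ∀ Z ∈ irreducibleComponents Xt, ∃ e : Γ(X, ⊤), IsIdempotentElem e ∧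
      ((f ⁻¹ᵁ (X.basicOpen e) : Xt.Opens) : Set Xt) = Z := by
    intro Z hZ
    have hZc : IsClosed Z := isClosed_of_mem_irreducibleComponents Z hZ
    obtain ⟨e', he', hbe'⟩ := Groth.Agent.H5.HensCouple.exists_idem_basicOpen_eq
      (X := Xt) (U := Z) ⟨hZc, hopen Z hZ⟩
    haveI := hfib ⊤
    let eT : Γ(X, ⊤) ≃+* Γ(Xt, f ⁻¹ᵁ ⊤) := (asIso (f.app ⊤)).commRingCatIsoToRingEquiv
    have hval : (f.app ⊤).hom (eT.symm e') = e' := eT.apply_symm_apply e'
    refine ⟨eT.symm e', ?_, ?_⟩
    · have h1 : IsIdempotentElem (e' : Γ(Xt, f ⁻¹ᵁ ⊤)) := he'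
      exact h1.map eT.symm
    · rw [Scheme.preimage_basicOpen, hval]
      exact hbe'
  choose! e he hpre using hidem
  obtain ⟨Z, hZ, hyZ⟩ : ∃ Z ∈ irreducibleComponents Xt, y ∈ X.basicOpen (e Z) := by
    by_contra hcon
    push Not at hcon
    let N : X.Opens := ⟨⋂ Z ∈ irreducibleComponents Xt, ((X.basicOpen (1 - e Z) : X.Opens) : Set X),
      hfinC.isOpen_biInter (fun Z _ => (X.basicOpen (1 - e Z)).isOpen)⟩
    have hyN : y ∈ N := by
      refine Set.mem_iInter₂.mpr fun Z hZ => ?_
      rw [Groth.Agent.H5.HensCouple.basicOpen_one_sub_idem (he Z hZ)]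
      exact hcon Z hZ
    have hpreN : f ⁻¹ᵁ N = ⊥ := by
      ext x
      constructor
      · intro hx
        have hZx := irreducibleComponent_mem_irreducibleComponents x
        have h1 : f.base x ∈ ((X.basicOpen (1 - e (irreducibleComponent x)) : X.Opens) : Set X) :=
          Set.mem_iInter₂.mp hx _ hZx
        rw [Groth.Agent.H5.HensCouple.basicOpen_one_sub_idem (he _ hZx)] at h1
        have h2 : x ∈ ((f ⁻¹ᵁ X.basicOpen (e (irreducibleComponent x)) : Xt.Opens) : Set Xt) := by
          rw [hpre _ hZx]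
          exact mem_irreducibleComponent
        exact (h1 h2).elim
      · intro hx
        exact hx.elim
    haveI := hfib N
    let eN : Γ(X, N) ≃+* Γ(Xt, f ⁻¹ᵁ N) := (asIso (f.app N)).commRingCatIsoToRingEquiv
    haveI : Subsingleton Γ(Xt, f ⁻¹ᵁ N) := by
      rw [hpreN]
      infer_instance
    haveI : Subsingleton Γ(X, N) := eN.injective.subsingleton
    have hNbot : N = ⊥ := by
      have h1 : X.basicOpen (1 : Γ(X, N)) = N := Scheme.basicOpen_of_isUnit _ isUnit_one
      have h0 : X.basicOpen (0 : Γ(X, N)) = ⊥ := Scheme.basicOpen_zero _ _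
      rw [← h1, Subsingleton.elim (1 : Γ(X, N)) 0, h0]
    rw [hNbot] at hyN
    exact hyN.elim
  obtain ⟨V, hV, hyV, hVZ⟩ :=
    exists_isAffineOpen_mem_and_subset (x := y) (U := X.basicOpen (e Z)) hyZ
  let W : Xt.Opens := f ⁻¹ᵁ V
  have hWZ : (W : Set Xt) ⊆ Z := by
    rw [← hpre Z hZ]
    exact fun x hx => hVZ hx
  haveI := hfib V
  let eV : Γ(X, V) ≃+* Γ(Xt, W) := (asIso (f.app V)).commRingCatIsoToRingEquiv
  have hWne : (W : Set Xt).Nonempty := by
    by_contra h
    rw [Set.not_nonempty_iff_eq_empty] at h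
    have hbot : W = ⊥ := by
      ext x
      constructor
      · intro hx
        have : x ∈ (W : Set Xt) := hx
        rw [h] at this
        exact this.elim
      · intro hx
        exact hx.elim
    haveI : Subsingleton Γ(Xt, W) := by
      rw [hbot]
      infer_instance
    haveI : Subsingleton Γ(X, V) := eV.injective.subsingleton
    have hVbot : V = ⊥ := by
      have h1 : X.basicOpen (1 : Γ(X, V)) = V := Scheme.basicOpen_of_isUnit _ isUnit_one
      have h0 : X.basicOpen (0 : Γ(X, V)) = ⊥ := Scheme.basicOpen_zero _ _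
      rw [← h1, Subsingleton.elim (1 : Γ(X, V)) 0, h0]
    rw [hVbot] at hyV
    exact hyV.elim
  haveI : IrreducibleSpace ↥W :=
    Subtype.irreducibleSpace ⟨hWne, hZ.1.isPreirreducible.open_subset W.isOpen hWZ⟩
  haveI : IrreducibleSpace (W : Scheme.{u}) := ‹IrreducibleSpace ↥W›
  haveI : IsReduced Xt := by
    haveI : ∀ x : Xt, _root_.IsReduced (Xt.presheaf.stalk x) := fun x => by
      haveI := (hXt x).1
      infer_instance
    exact isReduced_of_isReduced_stalk Xt
  haveI : IsReduced (W : Scheme.{u}) := isReduced_of_isOpenImmersion W.ι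
  haveI : IsIntegral (W : Scheme.{u}) := isIntegral_of_irreducibleSpace_of_isReduced _
  haveI : Nonempty (⊤ : (W : Scheme.{u}).Opens) := by
    obtain ⟨w⟩ := (inferInstance : Nonempty (W : Scheme.{u}))
    exact ⟨⟨w, trivial⟩⟩
  have hic : IsIntegrallyClosed Γ((W : Scheme.{u}), ⊤) :=
    isIntegrallyClosed_sections (isNormalScheme_opens hXt W) ⊤
  let eW : Γ((W : Scheme.{u}), ⊤) ≃+* Γ(Xt, W) := (W.topIso).commRingCatIsoToRingEquiv
  haveI : IsDomain Γ(Xt, W) := eW.symm.toMulEquiv.isDomain _
  haveI : IsIntegrallyClosed Γ(Xt, W) := IsIntegrallyClosed.of_equiv eW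
  haveI : IsDomain Γ(X, V) := eV.toMulEquiv.isDomain _
  haveI : IsIntegrallyClosed Γ(X, V) := IsIntegrallyClosed.of_equiv eV.symm
  let _ := TopCat.Presheaf.algebra_section_stalk X.presheaf (⟨y, hyV⟩ : V)
  have hloc := hV.isLocalization_stalk ⟨y, hyV⟩
  exact ⟨IsLocalization.isDomain_of_le_nonZeroDivisors _
      (Ideal.primeCompl_le_nonZeroDivisors (hV.primeIdealOf ⟨y, hyV⟩).asIdeal),
    isIntegrallyClosed_of_isLocalization (X.presheaf.stalk y)
      (hV.primeIdealOf ⟨y, hyV⟩).asIdeal.primeCompl (Ideal.primeCompl_le_nonZeroDivisors _)⟩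

end Groth.Agent.LD.Stein.NormalDescend
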