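import Mathlib
import Groth.Agent.Lib.Lead.Stein.UnibranchGeom

/-! # EGA III 4.3.5-type bound: the number of maximal ideals of an integral extension of an
integrally closed local domain inside an algebraic extension of its fraction field is bounded by
the separable degree; consequence for the number of connected components of the fibres of a
proper morphism at unibranch points. -/

set_option autoImplicit false
universe u

namespace Groth.Agent.LD.Stein.SepBound

open Polynomial

section Alg

variable {R F E Ω B : Type*} [CommRing R] [IsDomain R] [IsIntegrallyClosed R] [IsLocalRing R]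
  [Field F] [Algebra R F] [IsFractionRing R F]
  [Field E] [Algebra F E] [Algebra R E] [IsScalarTower R F E] [Algebra.IsAlgebraic F E]
  [Field Ω] [IsAlgClosed Ω] [Algebra F Ω] [Algebra R Ω] [IsScalarTower R F Ω]
  [CommRing B] [Algebra R B] [Algebra.IsIntegral R B]

/-- the ring map `C → integralClosure R Ω` induced by an embedding `τ`. -/
noncomputable def ψ (j : B →ₐ[R] E) (τ : E →ₐ[F] Ω) : B →ₐ[R] integralClosure R Ω :=
  ((τ.restrictScalars R).comp j).codRestrict (integralClosure R Ω)
    (fun c => ((Algebra.IsIntegral.isIntegral c).map j).map (τ.restrictScalars R))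

/-- every element of a maximal ideal of `B` lies in one of the primes `ψ_τ⁻¹(P₀)`. -/
theorem exists_mem_comap (j : B →ₐ[R] E) (hj : Function.Injective j)
    (P₀ : Ideal (integralClosure R Ω)) [hP₀p : P₀.IsPrime]
    (hP₀ : P₀.comap (algebraMap R (integralClosure R Ω)) = IsLocalRing.maximalIdeal R)
    (m : Ideal B) [m.IsMaximal] (z : B) (hz : z ∈ m) :
    ∃ τ : E →ₐ[F] Ω, z ∈ P₀.comap (ψ j τ) := by
  have hzint : IsIntegral R z := Algebra.IsIntegral.isIntegral z
  obtain ⟨g, hg⟩ : ∃ g : Polynomial R, g = minpoly R z := ⟨_, rfl⟩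
  have hmon : g.Monic := hg ▸ minpoly.monic hzint
  have hm : m.comap (algebraMap R B) = IsLocalRing.maximalIdeal R := by
    haveI := Ideal.isMaximal_comap_of_isIntegral_of_isMaximal (R := R) m
    exact IsLocalRing.eq_maximalIdeal this
  have h0 : g.coeff 0 ∈ IsLocalRing.maximalIdeal R := by
    rw [← hm, Ideal.mem_comap]
    have h1 : aeval z (g.divX * X + C (g.coeff 0)) = 0 := by
      rw [divX_mul_X_add, hg]
      exact minpoly.aeval R z
    rw [map_add, map_mul, aeval_X, aeval_C] at h1
    have h2 : algebraMap R B (g.coeff 0) = -(aeval z g.divX * z) :=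
      eq_neg_of_add_eq_zero_right h1
    rw [h2]
    exact m.neg_mem (m.mul_mem_left _ hz)
  -- the polynomial over Ω
  obtain ⟨gΩ, hgΩ⟩ : ∃ gΩ : Polynomial Ω, gΩ = g.map (algebraMap R Ω) := ⟨_, rfl⟩
  have hsplit : gΩ.Splits := IsAlgClosed.splits gΩ
  have hmonΩ : gΩ.Monic := hgΩ ▸ hmon.map _
  have hc0 : algebraMap R Ω (g.coeff 0) = (-1) ^ gΩ.natDegree * gΩ.roots.prod := by
    rw [← hsplit.coeff_zero_eq_prod_roots_of_monic hmonΩ, hgΩ, coeff_map]
  have hroot : ∀ r ∈ gΩ.roots, eval₂ (algebraMap R Ω) r g = 0 := by
    intro r hr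
    have h1 := (mem_roots hmonΩ.ne_zero).1 hr
    rw [IsRoot.def, hgΩ, eval_map] at h1
    exact h1
  have hrint : ∀ r ∈ gΩ.roots, IsIntegral R r := fun r hr => ⟨g, hmon, hroot r hr⟩
  obtain ⟨rootsD, hrootsD⟩ : ∃ rootsD : Multiset (integralClosure R Ω),
      rootsD = gΩ.roots.pmap (fun r hr => ⟨r, hr⟩) hrint := ⟨_, rfl⟩
  have hmap : rootsD.map (integralClosure R Ω).val = gΩ.roots := by
    rw [hrootsD, Multiset.map_pmap]
    exact (Multiset.pmap_eq_map _ (fun r => r) _ _).trans (Multiset.map_id' _)
  have hprodD : ((rootsD.prod : integralClosure R Ω) : Ω) = gΩ.roots.prod := by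
    rw [← hmap, ← map_multiset_prod]
    rfl
  have hmemP : rootsD.prod ∈ P₀ := by
    have h3 : algebraMap R (integralClosure R Ω) (g.coeff 0) ∈ P₀ := by
      rw [← Ideal.mem_comap, hP₀]
      exact h0
    have h4 : algebraMap R (integralClosure R Ω) (g.coeff 0) =
        (-1) ^ gΩ.natDegree * rootsD.prod := by
      apply Subtype.ext
      change algebraMap R Ω (g.coeff 0) = _
      rw [hc0]
      push_cast
      congr 1
      exact (congrArg Multiset.prod hmap).symm
    rw [h4] at h3
    rcases hP₀p.mem_or_mem h3 with h5 | h5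
    · exfalso
      have h6 : (1 : integralClosure R Ω) ∈ P₀ := by
        have h7 := P₀.mul_mem_left ((-1) ^ gΩ.natDegree) h5
        rwa [← mul_pow, neg_mul_neg, one_mul, one_pow] at h7
      exact hP₀p.ne_top ((Ideal.eq_top_iff_one _).2 h6)
    · exact h5
  obtain ⟨d, hdmem, hdP⟩ := (hP₀p.multiset_prod_mem_iff_exists_mem rootsD).1 hmemP
  rw [hrootsD] at hdmem
  obtain ⟨r, hr, rfl⟩ := Multiset.mem_pmap.1 hdmem
  have hrs : r ∈ (minpoly F (j z)).rootSet Ω := by
    rw [minpoly.isIntegrallyClosed_eq_field_fractions' F (hzint.map j), minpoly.algHom_eq j hj z,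
      ← hg, mem_rootSet]
    refine ⟨(hmon.map _).ne_zero, ?_⟩
    rw [aeval_def, eval₂_map, ← IsScalarTower.algebraMap_eq]
    exact hroot r hr
  rw [← Algebra.IsAlgebraic.range_eval_eq_rootSet_minpoly Ω (j z)] at hrs
  obtain ⟨τ, hτ⟩ := hrs
  refine ⟨τ, ?_⟩
  rw [Ideal.mem_comap]
  have h8 : ψ j τ z = ⟨r, hrint r hr⟩ := Subtype.ext hτ
  rw [h8]
  exact hdP

/-- the maximal spectrum of `B` injects into the set of `F`-embeddings of `E` into `Ω`. -/
theorem exists_injective (j : B →ₐ[R] E) (hj : Function.Injective j) [Finite (E →ₐ[F] Ω)] :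
    ∃ Φ : MaximalSpectrum B → (E →ₐ[F] Ω), Function.Injective Φ := by
  classical
  have hinjΩ : Function.Injective (algebraMap R Ω) := by
    rw [IsScalarTower.algebraMap_eq R F Ω]
    exact (algebraMap F Ω).injective.comp (IsFractionRing.injective R F)
  have hinjD : Function.Injective (algebraMap R (integralClosure R Ω)) := by
    intro a b hab
    exact hinjΩ (congrArg Subtype.val hab)
  obtain ⟨P₀, hP₀max, hP₀⟩ := Ideal.exists_ideal_over_maximal_of_isIntegral
    (S := integralClosure R Ω) (IsLocalRing.maximalIdeal R) (by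
      rw [(RingHom.injective_iff_ker_eq_bot _).1 hinjD]
      exact bot_le)
  haveI := hP₀max.isPrime
  have key : ∀ m : MaximalSpectrum B, ∃ τ : E →ₐ[F] Ω, m.asIdeal = P₀.comap (ψ j τ) := by
    intro m
    haveI := m.isMaximal
    have hcov : ∀ z ∈ m.asIdeal, ∃ τ : E →ₐ[F] Ω, z ∈ P₀.comap (ψ j τ) :=
      fun z hz => exists_mem_comap j hj P₀ hP₀ m.asIdeal z hz
    obtain ⟨τ₀, -⟩ := hcov 0 m.asIdeal.zero_mem
    cases nonempty_fintype (E →ₐ[F] Ω)
    have hsub : (m.asIdeal : Set B) ⊆ ⋃ τ ∈ (↑(Finset.univ : Finset (E →ₐ[F] Ω)) : Set (E →ₐ[F] Ω)),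
        ((P₀.comap (ψ j τ) : Ideal B) : Set B) := by
      intro z hz
      obtain ⟨τ, hτ⟩ := hcov z hz
      exact Set.mem_biUnion (Finset.mem_coe.2 (Finset.mem_univ τ)) hτ
    obtain ⟨τ, -, hle⟩ := (Ideal.subset_union_prime τ₀ τ₀
      (fun τ _ _ _ => Ideal.comap_isPrime _ _)).1 hsub
    exact ⟨τ, m.isMaximal.eq_of_le (Ideal.comap_ne_top _ hP₀max.ne_top) hle⟩
  choose Φ hΦ using key
  refine ⟨Φ, fun m₁ m₂ h => ?_⟩
  apply MaximalSpectrum.ext
  rw [hΦ m₁, hΦ m₂, h]

end Alg

section AbstractG

variable {O KY KX : Type u} [CommRing O] [IsDomain O] [Field KY] [Algebra O KY]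
  [IsFractionRing O KY] [Field KX] [Algebra KY KX] [Algebra O KX] [IsScalarTower O KY KX]

/-- abstract form: if the normalization of `O` is local, the maximal ideals of the integral closure
of `O` in `KX` inject into the embeddings of the algebraic closure of `KY` in `KX`. -/
theorem exists_injective_of_isLocalRing (hR : IsLocalRing (integralClosure O KY))
    [Finite (↥(algebraicClosure KY KX) →ₐ[KY] AlgebraicClosure ↥(algebraicClosure KY KX))] :
    ∃ Φ : MaximalSpectrum ↥(integralClosure O KX).toSubring →
      (↥(algebraicClosure KY KX) →ₐ[KY] AlgebraicClosure ↥(algebraicClosure KY KX)),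
      Function.Injective Φ := by
  haveI := hR
  have hinjO : Function.Injective (algebraMap O KY) := IsFractionRing.injective _ _
  haveI : Algebra.IsAlgebraic O KY := IsLocalization.isAlgebraic _ (nonZeroDivisors O)
  haveI hRfr : IsFractionRing (integralClosure O KY) KY :=
    integralClosure.isFractionRing_of_algebraic (fun x hx => hinjO (hx.trans (map_zero _).symm))
  haveI hRic : IsIntegrallyClosed (integralClosure O KY) :=
    integralClosure.isIntegrallyClosedOfFiniteExtension (R := O) KY (L := KY)
  haveI tE : IsScalarTower (integralClosure O KY) KY ↥(algebraicClosure KY KX) :=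
    IsScalarTower.of_algebraMap_eq (fun x => rfl)
  haveI tΩ : IsScalarTower (integralClosure O KY) KY
      (AlgebraicClosure ↥(algebraicClosure KY KX)) :=
    IsScalarTower.of_algebraMap_eq (fun x => rfl)
  -- the `R`-algebra structure on `C`
  let ρ : integralClosure O KY →+* ↥(integralClosure O KX).toSubring :=
    ((algebraMap KY KX).comp (algebraMap (integralClosure O KY) KY)).codRestrict
      (integralClosure O KX).toSubring
      (fun r => show IsIntegral O (algebraMap KY KX (r : KY)) from
        r.2.map (IsScalarTower.toAlgHom O KY KX))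
  letI algRC : Algebra (integralClosure O KY) ↥(integralClosure O KX).toSubring := ρ.toAlgebra
  haveI : Algebra.IsIntegral (integralClosure O KY) ↥(integralClosure O KX).toSubring := by
    constructor
    intro c
    obtain ⟨p, hp, hpc⟩ : IsIntegral O (c : KX) := c.2
    refine ⟨p.map (algebraMap O (integralClosure O KY)), hp.map _, ?_⟩
    rw [Polynomial.eval₂_map]
    apply Subtype.ext
    have h2 := Polynomial.hom_eval₂ p
      ((algebraMap (integralClosure O KY) ↥(integralClosure O KX).toSubring).comp
        (algebraMap O (integralClosure O KY)))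
      ((integralClosure O KX).toSubring.subtype) c
    have h1 : ((integralClosure O KX).toSubring.subtype).comp
        ((algebraMap (integralClosure O KY) ↥(integralClosure O KX).toSubring).comp
          (algebraMap O (integralClosure O KY))) = algebraMap O KX := by
      ext o
      change algebraMap KY KX (algebraMap O KY o) = _
      rw [← IsScalarTower.algebraMap_apply]
    rw [h1] at h2
    exact h2.trans hpc
  -- the map `j`
  let j₀ : ↥(integralClosure O KX).toSubring →+* ↥(algebraicClosure KY KX) :=
    ((integralClosure O KX).toSubring.subtype).codRestrict (algebraicClosure KY KX)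
      (fun c => mem_algebraicClosure_iff'.2
        ((show IsIntegral O (c : KX) from c.2).tower_top (A := KY)))
  let j : ↥(integralClosure O KX).toSubring →ₐ[integralClosure O KY] ↥(algebraicClosure KY KX) :=
    { toRingHom := j₀
      commutes' := fun r => rfl }
  have hj : Function.Injective j := fun a b hab =>
    Subtype.ext (congrArg (fun e : ↥(algebraicClosure KY KX) => (e : KX)) hab)
  exact exists_injective (R := integralClosure O KY) (F := KY) (E := ↥(algebraicClosure KY KX))
    (Ω := AlgebraicClosure ↥(algebraicClosure KY KX)) j hj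

end AbstractG

section Geom

open AlgebraicGeometry CategoryTheory Groth.Agent.LD

variable {X Y : Scheme.{u}} [IsIntegral X] [IsIntegral Y] (f : X ⟶ Y)

/-- the geometric form of the bound. -/
theorem card_maximalSpectrum_le
    (hdom : f.base (genericPoint X) ⤳ genericPoint Y) [Algebra Y.functionField X.functionField]
    (halg : algebraMap Y.functionField X.functionField =
      CohIII.stalkToFunctionField f (genericPoint Y) hdom)
    (n : ℕ) (hn0 : 0 < n)
    (hn : Field.finSepDegree Y.functionField
      ↥(algebraicClosure Y.functionField X.functionField) = n)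
    (y : Y) (hy : CAlg2.IsUnibranch (Y.presheaf.stalk y)) (h : f.base (genericPoint X) ⤳ y) :
    Finite (MaximalSpectrum (CohIII.integralClosureStalk f y h)) ∧
      Nat.card (MaximalSpectrum (CohIII.integralClosureStalk f y h)) ≤ n := by
  letI algOKX : Algebra (Y.presheaf.stalk y) X.functionField :=
    (CohIII.stalkToFunctionField f y h).toAlgebra
  haveI tower1 : IsScalarTower (Y.presheaf.stalk y) Y.functionField X.functionField :=
    IsScalarTower.of_algebraMap_eq' (by
      rw [halg]
      exact (stalkToFunctionField_comp_algebraMap f hdom y h).symm)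
  have hinjO : Function.Injective (algebraMap (Y.presheaf.stalk y) Y.functionField) :=
    IsFractionRing.injective _ _
  have hRloc : IsLocalRing (integralClosure (Y.presheaf.stalk y) Y.functionField) := by
    apply Unibranch.isLocalRing_integralClosure hinjO hy
    intro z _
    obtain ⟨a, b, hb, rfl⟩ := IsFractionRing.div_surjective (A := Y.presheaf.stalk y) z
    refine ⟨0, a, b, nonZeroDivisors.ne_zero hb, ?_⟩
    have hb0 : algebraMap (Y.presheaf.stalk y) Y.functionField b ≠ 0 := fun h0 =>
      nonZeroDivisors.ne_zero hb (hinjO (h0.trans (map_zero _).symm))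
    rw [pow_zero, pow_one, div_mul_cancel₀ _ hb0]
  have hcard := Field.finSepDegree_eq_of_isAlgClosed Y.functionField
    ↥(algebraicClosure Y.functionField X.functionField)
    (AlgebraicClosure ↥(algebraicClosure Y.functionField X.functionField))
  rw [hn] at hcard
  haveI : Finite (↥(algebraicClosure Y.functionField X.functionField) →ₐ[Y.functionField]
      AlgebraicClosure ↥(algebraicClosure Y.functionField X.functionField)) :=
    Nat.finite_of_card_ne_zero (by rw [← hcard]; exact hn0.ne')
  obtain ⟨Φ, hΦ⟩ := exists_injective_of_isLocalRing (O := Y.presheaf.stalk y)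
    (KY := Y.functionField) (KX := X.functionField) hRloc
  refine ⟨Finite.of_injective Φ hΦ, ?_⟩
  rw [hcard]
  exact Nat.card_le_card_of_injective Φ hΦ

/-- EGA III 4.3.5-type statement: number of connected components of the fibre at a unibranch
point is at most the separable degree. -/
theorem card_connectedComponents_fiber_le (hfin : RS.FinCoh.{u}) (hF : PS.FormalBijHyp.{u})
    [IsProper f] [IsLocallyNoetherian Y]
    (hdom : f.base (genericPoint X) ⤳ genericPoint Y) [Algebra Y.functionField X.functionField]
    (halg : algebraMap Y.functionField X.functionField =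
      CohIII.stalkToFunctionField f (genericPoint Y) hdom)
    (n : ℕ) (hn0 : 0 < n)
    (hn : Field.finSepDegree Y.functionField
      ↥(algebraicClosure Y.functionField X.functionField) = n)
    (y : Y) (hy : CAlg2.IsUnibranch (Y.presheaf.stalk y)) :
    Finite (_root_.ConnectedComponents ↥(f.fiber y)) ∧
      Nat.card (_root_.ConnectedComponents ↥(f.fiber y)) ≤ n := by
  have h : f.base (genericPoint X) ⤳ y :=
    hdom.trans ((genericPoint_spec Y).specializes (Set.mem_univ y))
  have hle := mk_connectedComponents_fiber_le hfin hF f y h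
  obtain ⟨hfinM, hcard⟩ := card_maximalSpectrum_le f hdom halg n hn0 hn y hy h
  have hltM : Cardinal.mk (MaximalSpectrum (CohIII.integralClosureStalk f y h)) <
      Cardinal.aleph0 := Cardinal.lt_aleph0_of_finite _
  haveI hfinC : Finite (_root_.ConnectedComponents ↥(f.fiber y)) :=
    Cardinal.lt_aleph0_iff_finite.1 (lt_of_le_of_lt hle hltM)
  refine ⟨hfinC, le_trans ?_ hcard⟩
  exact Cardinal.toNat_le_toNat hle hltM

end Geom

end Groth.Agent.LD.Stein.SepBound
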